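import Cfsg.Agent.Lib.Fusion.Biset.CentralTransfer
import Cfsg.Agent.Lib.Fusion.Model

/-!
# Existence of models of constrained systems
-/

set_option autoImplicit false

namespace CfsgLib.Fusion

open Cfsg Cfsg.FusionSystem

universe u

variable {Ω : Type u} [Group Ω] {S : Subgroup Ω} {F : FusionSystem S} {p : ℕ}

theorem exists_pow_of_coprime {Z : Type*} [Group Z] [Finite Z] [Fact p.Prime] (hZ : IsPGroup p Z)
    {N : ℕ} (hN : ¬ p ∣ N) : Function.Bijective (fun z : Z => z ^ N) := by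
  obtain ⟨k, hk⟩ := IsPGroup.iff_card.1 hZ
  exact ((Nat.Coprime.pow_left k ((Fact.out : p.Prime).coprime_iff_not_dvd.2 hN)).symm |>
    fun h => powCoprime (G := Z) (n := N) (hk ▸ h.symm)).bijective

/-- A saturated system with a normal centric subgroup has a model. -/
theorem exists_model_of_normal_centric [Fact p.Prime] [Finite S] (hS : IsPGroup p S)
    (hF : F.IsSaturated p) {Q : Subgroup Ω} (hQn : F.IsNormal Q) (hQc : F.IsCentric Q) :
    ∃ (M : Type u) (_ : Group M) (ι : S →* M), F.IsModel p M ι := by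
  classical
  obtain ⟨X, i, j, hX, n, hn, hpn⟩ := exists_charBiset (F := F) hS hF
  have hQS := hQn.1
  have hQN := IsNormal.normal_in hQn
  have := finite_le hQS
  have := finite_mulAut_of_le (S := S) hQS
  set G := parkGroup S X
  set ι₀ := parkEmb S X with hι₀
  have hinj := parkEmb_injective hX
  set H := parkNormalizer F hQS X
  set C := Subgroup.centralizer ((Q.subgroupOf S).map ι₀ : Set G) with hC
  set A := F.autGroup Q
  obtain ⟨τ, N, hpN, hτz, hτtw⟩ := exists_central_transfer hS hX hn hpn hQn hQc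
  -- the action on `Q`
  have hex : ∀ h : H, ∃ α : A, ∀ q : Q, ι₀ (Subgroup.inclusion hQS ((α : MulAut Q) q)) * (h : G) =
      (h : G) * ι₀ (Subgroup.inclusion hQS q) := fun h => by
    obtain ⟨α, hα, hv⟩ := h.2
    exact ⟨⟨α, hα⟩, hv⟩
  choose πf hπf using hex
  have huniq : ∀ (h : H) (α : MulAut Q), (∀ q : Q, ι₀ (Subgroup.inclusion hQS (α q)) * (h : G) =
      (h : G) * ι₀ (Subgroup.inclusion hQS q)) → (πf h : MulAut Q) = α := fun h α hv =>
    MulEquiv.ext fun q => Subgroup.inclusion_injective hQS (hinj (mul_right_cancel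
      ((hπf h q).trans (hv q).symm)))
  let π : H →* A := MonoidHom.mk' πf fun a b => Subtype.ext (huniq _ _ fun q => by
    rw [Subgroup.coe_mul, MulAut.mul_apply, Subgroup.coe_mul, ← mul_assoc, hπf a, mul_assoc, hπf b,
      mul_assoc])
  have hCker : ∀ h : H, π h = 1 ↔ (h : G) ∈ C := by
    intro h
    constructor
    · intro h1
      refine Subgroup.mem_centralizer_iff.2 ?_
      rintro _ ⟨q, hq, rfl⟩
      have h2 := hπf h ⟨(q : Ω), hq⟩
      rw [show πf h = 1 from h1] at h2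
      exact h2
    · intro hh
      refine Subtype.ext (huniq h 1 fun q => ?_)
      exact Subgroup.mem_centralizer_iff.1 hh _ ⟨_, q.2, rfl⟩
  have hCH : C ≤ H := fun g hg => ⟨1, one_mem _, fun q =>
    Subgroup.mem_centralizer_iff.1 hg _ ⟨_, q.2, rfl⟩⟩
  have hπsurj : Function.Surjective π := by
    intro α
    obtain ⟨g, hg⟩ := hX.exists_conj ((mem_autGroup_iff hQS).1 α.2)
    exact ⟨⟨g, α, α.2, hg⟩, Subtype.ext (huniq _ _ hg)⟩
  -- the kernel
  let incC : C →* H := Subgroup.inclusion hCH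
  let K : Subgroup H := τ.ker.map incC
  have hKn : K.Normal := by
    refine ⟨?_⟩
    rintro _ ⟨c, hc, rfl⟩ h
    have hmem : ((h * incC c * h⁻¹ : H) : G) ∈ C := (hCker _).1 (by
      rw [map_mul, map_mul, (hCker (incC c)).2 c.2, mul_one, map_inv, mul_inv_cancel])
    refine ⟨⟨_, hmem⟩, ?_, Subtype.ext rfl⟩
    show τ _ = 1
    rw [hτtw h (π h : MulAut Q) (π h).2 (hπf h) c ⟨_, hmem⟩
      (show (h : G) * c * (h : G)⁻¹ * h = h * c from inv_mul_cancel_right _ _),
      show τ c = 1 from hc, map_one]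
  let ι' : S →* H := ι₀.codRestrict H fun s => ⟨conjAut (⟨s, s.2, hQN s.2⟩ : normalizerIn S Q),
    autInducedBy_le_autGroup hQS (conjAut_mem _), fun q => by
      rw [← map_mul, ← map_mul]
      exact congrArg ι₀ (Subtype.ext (inv_mul_cancel_right _ _))⟩
  have hπι : ∀ (s : S) (q : Q), (((π (ι' s) : A) : MulAut Q) q : Ω) = s * (q : Ω) * (s : Ω)⁻¹ := by
    intro s q
    have h1 : (π (ι' s) : MulAut Q) = conjAut (⟨s, s.2, hQN s.2⟩ : normalizerIn S Q) :=
      huniq _ _ fun q => by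
        show ι₀ _ * ι₀ s = ι₀ s * ι₀ _
        rw [← map_mul, ← map_mul]
        exact congrArg ι₀ (Subtype.ext (inv_mul_cancel_right _ _))
    rw [h1, conjAut_apply]
  have hπK : ∀ k ∈ K, π k = 1 := by
    rintro _ ⟨c, -, rfl⟩
    exact (hCker _).2 c.2
  let mk : H →* H ⧸ K := QuotientGroup.mk' K
  let ιM : S →* H ⧸ K := mk.comp ι'
  -- powers
  have hZp : IsPGroup p (Subgroup.center Q) := (hS.to_le hQS).to_subgroup _
  have hpow := exists_pow_of_coprime hZp hpN
  -- elements of `C` modulo `K`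
  have hCz : ∀ h : H, π h = 1 → ∃ z : Subgroup.center Q,
      mk h = ιM (Subgroup.inclusion hQS (z : Q)) := by
    intro h hh
    obtain ⟨z, hz⟩ := hpow.2 (τ ⟨h, (hCker h).1 hh⟩)
    replace hz : z ^ N = τ ⟨h, (hCker h).1 hh⟩ := hz
    refine ⟨z, ?_⟩
    have hzC : ι₀ (Subgroup.inclusion hQS (z : Q)) ∈ C := Subgroup.mem_centralizer_iff.2 (by
      rintro _ ⟨q, hq, rfl⟩
      rw [← map_mul, ← map_mul]
      refine congrArg ι₀ (Subtype.ext ?_)
      exact congrArg (fun y : Q => (y : Ω)) (Subgroup.mem_center_iff.1 z.2 ⟨(q : Ω), hq⟩))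
    refine (QuotientGroup.eq_iff_div_mem (N := K)).2 ⟨⟨(h : G), (hCker h).1 hh⟩ / ⟨_, hzC⟩, ?_, ?_⟩
    · show τ _ = 1
      rw [map_div, hτz z ⟨_, hzC⟩ rfl, hz, div_self']
    · exact Subtype.ext rfl
  have hιinj : Function.Injective ιM := by
    refine (injective_iff_map_eq_one _).2 fun s hs => ?_
    obtain ⟨c, hc, hcs⟩ := (QuotientGroup.eq_one_iff _).1 hs
    have hπ1 : π (ι' s) = 1 := hπK _ ⟨c, hc, hcs⟩
    have hsQ : (s : Ω) ∈ Q := hQc.2 Q (isConj_refl hQS) (mem_centralizerIn.2 ⟨s.2, fun q hq => by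
      have h1 := hπι s ⟨q, hq⟩
      rw [hπ1] at h1
      exact (mul_inv_eq_iff_eq_mul.1 h1.symm).symm⟩)
    have hz : (⟨(s : Ω), hsQ⟩ : Q) ∈ Subgroup.center Q := Subgroup.mem_center_iff.2 fun q => by
      have h1 := hπι s q
      rw [hπ1] at h1
      exact Subtype.ext (mul_inv_eq_iff_eq_mul.1 h1.symm).symm
    have h2 := hτz ⟨_, hz⟩ c (congrArg (fun h : H => (h : G)) hcs)
    rw [show τ c = 1 from hc] at h2
    have h3 : (⟨_, hz⟩ : Subgroup.center Q) = 1 := hpow.1 (h2.symm.trans (one_pow N).symm)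
    exact Subtype.ext (congrArg (fun z : Subgroup.center Q => ((z : Q) : Ω)) h3)
  -- the order
  have hcard : Nat.card (H ⧸ K) = Nat.card A * Nat.card (Subgroup.center Q) := by
    have hker : Nat.card π.ker = Nat.card C := by
      have : π.ker = C.subgroupOf H := by ext h; exact hCker h
      rw [this, Nat.card_congr (Subgroup.subgroupOfEquivOfLe hCH).toEquiv]
    have hτsurj : Function.Surjective τ := fun w => by
      obtain ⟨z, hz⟩ := hpow.2 w
      have hzC : ι₀ (Subgroup.inclusion hQS (z : Q)) ∈ C := Subgroup.mem_centralizer_iff.2 (by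
        rintro _ ⟨q, hq, rfl⟩
        rw [← map_mul, ← map_mul]
        refine congrArg ι₀ (Subtype.ext ?_)
        exact congrArg (fun y : Q => (y : Ω)) (Subgroup.mem_center_iff.1 z.2 ⟨(q : Ω), hq⟩))
      exact ⟨⟨_, hzC⟩, (hτz z _ rfl).trans hz⟩
    have h1 := π.ker.card_mul_index
    rw [Subgroup.index_ker, MonoidHom.range_eq_top.2 hπsurj, Subgroup.card_top, hker,
      ← τ.ker.card_mul_index, Subgroup.index_ker, MonoidHom.range_eq_top.2 hτsurj,
      Subgroup.card_top] at h1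
    have h2 := Subgroup.card_eq_card_quotient_mul_card_subgroup K
    rw [show Nat.card K = Nat.card τ.ker from
      Subgroup.card_map_of_injective (Subgroup.inclusion_injective hCH), ← h1] at h2
    refine Nat.eq_of_mul_eq_mul_right (Nat.card_pos (α := τ.ker)) ?_
    rw [← h2]; ring
  -- `Q` in the model
  set QM := (Q.subgroupOf S).map ιM with hQM
  have hQMn : QM.Normal := by
    refine ⟨?_⟩
    rintro _ ⟨q, hq, rfl⟩ m
    induction m using QuotientGroup.induction_on with
    | H h =>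
      refine ⟨Subgroup.inclusion hQS ((π h : MulAut Q) ⟨(q : Ω), hq⟩),
        ((π h : MulAut Q) ⟨(q : Ω), hq⟩).2, ?_⟩
      show mk (ι' _) = mk h * mk (ι' q) * (mk h)⁻¹
      rw [← map_inv, ← map_mul, ← map_mul]
      refine congrArg mk (Subtype.ext ?_)
      exact eq_mul_inv_of_mul_eq (hπf h ⟨(q : Ω), hq⟩)
  have hfn := IsNormal.fullyNormalized hQn
  refine ⟨H ⧸ K, inferInstance, ιM, inferInstance, ⟨hιinj, fun P hP φ hφS => ⟨fun hφ => ?_, ?_⟩⟩,
    ?_, ?_⟩
  · -- maps of `F` are conjugations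
    obtain ⟨ψ, hψ, hψP, hψQ⟩ := hQn.2 P φ hφ
    have hrQ : (ψ.comp (Subgroup.inclusion (le_sup_right : Q ≤ P ⊔ Q))).range = Q := by
      rw [range_restrict]; exact hψQ
    obtain ⟨e, he, hev⟩ := exists_iso (restrict_mem hψ (le_sup_right : Q ≤ P ⊔ Q)) hrQ
    obtain ⟨g, hg⟩ := hX.exists_conj hψ
    have hgH : g ∈ H := ⟨e, (mem_autGroup_iff_isoIn hQS).2 he, fun q => by
      have h1 := hg (Subgroup.inclusion (le_sup_right : Q ≤ P ⊔ Q) q)
      rw [show Subgroup.inclusion hQS (e q) = ⟨ψ _, hom_apply_mem hψ _⟩ from Subtype.ext (hev q)]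
      exact h1⟩
    refine ⟨mk ⟨g, hgH⟩, fun x => ?_⟩
    show mk (ι' ⟨φ x, hφS x⟩) = mk ⟨g, hgH⟩ * mk (ι' ⟨x, hP x.2⟩) * (mk ⟨g, hgH⟩)⁻¹
    rw [← map_inv, ← map_mul, ← map_mul]
    refine congrArg mk (Subtype.ext ?_)
    rw [show (⟨φ x, hφS x⟩ : S) = ⟨ψ (Subgroup.inclusion le_sup_left x), hom_apply_mem hψ _⟩ from
      Subtype.ext (hψP x).symm]
    exact eq_mul_inv_of_mul_eq (hg _)
  · -- conjugations are maps of `F`
    rintro ⟨m, hm⟩
    induction m using QuotientGroup.induction_on with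
    | H h =>
    set α := π h
    obtain ⟨-, hrec⟩ := IsSaturated.receptive hS hF (IsSaturated.fullyCentralized hS hF hfn)
    have hαF : isoHom ((α : MulAut Q) : Q ≃* Q) ∈ F.Hom Q := (mem_autGroup_iff_isoIn hQS).1 α.2
    obtain ⟨ψ, hψ, hψQ⟩ := hrec Q _ hαF (isoHom_range _)
    have hcomm : ∀ x : P, π (ι' ⟨φ x, hφS x⟩) * α = α * π (ι' ⟨x, hP x.2⟩) := fun x => by
      have h1 := hm x
      have h2 : mk (ι' ⟨φ x, hφS x⟩ * h) = mk (h * ι' ⟨x, hP x.2⟩) := by
        rw [map_mul, map_mul, show mk (ι' ⟨φ x, hφS x⟩) = _ from h1]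
        exact inv_mul_cancel_right _ _
      have h3 := hπK _ (QuotientGroup.eq_iff_div_mem.1 h2)
      rwa [map_div, div_eq_one, map_mul, map_mul] at h3
    have hPQN : P ⊔ Q ≤ extender S Q (isoHom ((α : MulAut Q) : Q ≃* Q)) := by
      refine sup_le (fun x hx => ?_) (le_extender hQS fun q => hQS ((α : MulAut Q) q).2)
      refine mem_extender_iff.2 ⟨hP hx, hQN (hP hx), φ ⟨x, hx⟩, hφS _, fun q hq => ?_⟩
      have h1 := congrArg (fun a : A => (((a : MulAut Q) q : Q) : Ω)) (hcomm ⟨x, hx⟩)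
      simp only [Subgroup.coe_mul, MulAut.mul_apply, hπι] at h1
      rw [isoHom_apply, isoHom_apply, h1]
      congr 2
      exact Subtype.ext (hπι ⟨x, hP hx⟩ q).symm
    have hψ1 := restrict_mem hψ hPQN
    obtain ⟨g, hg⟩ := hX.exists_conj hψ1
    have hgq : ∀ q : Q, ι₀ (Subgroup.inclusion hQS ((α : MulAut Q) q)) * g =
        g * ι₀ (Subgroup.inclusion hQS q) := fun q => by
      have h1 := hg (Subgroup.inclusion (le_sup_right : Q ≤ P ⊔ Q) q)
      rw [show Subgroup.inclusion hQS ((α : MulAut Q) q) =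
        ⟨ψ.comp (Subgroup.inclusion hPQN) (Subgroup.inclusion le_sup_right q), hom_apply_mem hψ1 _⟩ from
        Subtype.ext (hψQ _ q.2 (hPQN (le_sup_right (a := P) q.2))).symm]
      exact h1
    set g' : H := ⟨g, α, α.2, hgq⟩
    obtain ⟨z, hz⟩ := hCz (g'⁻¹ * h) (by
      rw [map_mul, map_inv, show π g' = α from Subtype.ext (huniq _ _ hgq), inv_mul_cancel])
    have hzPQ : ((z : Q) : Ω) ∈ P ⊔ Q := le_sup_right (a := P) (z : Q).2
    set w : ↥(P ⊔ Q) := ⟨((z : Q) : Ω), hzPQ⟩ with hw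
    have hφ' : ∀ x : P, φ x =
        ψ.comp (Subgroup.inclusion hPQN) (w * Subgroup.inclusion le_sup_left x * w⁻¹) := by
      intro x
      set y := w * Subgroup.inclusion (le_sup_left : P ≤ P ⊔ Q) x * w⁻¹
      have h2 : ιM ⟨ψ.comp (Subgroup.inclusion hPQN) y, hom_apply_mem hψ1 _⟩ =
          mk g' * ιM ⟨(y : Ω), hom_le hψ1 y.2⟩ * (mk g')⁻¹ := by
        show mk (ι' _) = mk g' * mk (ι' _) * (mk g')⁻¹
        rw [← map_inv, ← map_mul, ← map_mul]
        exact congrArg mk (Subtype.ext (eq_mul_inv_of_mul_eq (hg y)))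
      have h4 : mk h = mk g' * ιM (Subgroup.inclusion hQS (z : Q)) := by
        rw [← hz, ← map_mul, mul_inv_cancel_left]
      have h5 : ιM ⟨φ x, hφS x⟩ = ιM ⟨ψ.comp (Subgroup.inclusion hPQN) y, hom_apply_mem hψ1 _⟩ := by
        rw [h2, hm x, show ((h : H ⧸ K)) = mk h from rfl, h4, mul_inv_rev,
          show (⟨(y : Ω), hom_le hψ1 y.2⟩ : S) = Subgroup.inclusion hQS (z : Q) * ⟨x, hP x.2⟩ *
            (Subgroup.inclusion hQS (z : Q))⁻¹ from Subtype.ext rfl, map_mul, map_mul, map_inv]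
        group
      exact congrArg Subtype.val (hιinj h5)
    have hcz : ∀ x : P, (w * Subgroup.inclusion le_sup_left x * w⁻¹ : ↥(P ⊔ Q)).1 ∈ P ⊔ Q :=
      fun x => SetLike.coe_mem _
    exact comp_mem' (F.conj_mem (g := (w : Ω)) hP (hom_le hψ1 w.2)) hψ1
      (fun x => hcz x) hφ'
  · -- Sylow
    have hp : IsPGroup p ιM.range := hS.of_surjective ιM.rangeRestrict ιM.rangeRestrict_surjective
    obtain ⟨R, hR⟩ := IsSaturated.fullyAutomized hS hF hfn |>.2
    have hidx : ιM.range.index = (R : Subgroup A).index := by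
      have h1 := ιM.range.card_mul_index
      rw [← Nat.card_congr (MonoidHom.ofInjective hιinj).toEquiv, hcard] at h1
      have hNS : normalizerIn S Q = S := le_antisymm (normalizerIn_le Q) (le_inf le_rfl hQN)
      have h2 := card_normalizerIn (S := S) Q
      rw [hNS] at h2
      have h3 : Nat.card (centralizerIn S Q) = Nat.card (Subgroup.center Q) := by
        refine Nat.card_congr
          { toFun := fun s => ⟨⟨(s : Ω), hQc.2 Q (isConj_refl hQS) s.2⟩, Subgroup.mem_center_iff.2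
              fun q => Subtype.ext ((mem_centralizerIn.1 s.2).2 q q.2)⟩
            invFun := fun z => ⟨((z : Q) : Ω), mem_centralizerIn.2 ⟨hQS (z : Q).2, fun q hq =>
              congrArg Subtype.val (Subgroup.mem_center_iff.1 z.2 ⟨q, hq⟩)⟩⟩
            left_inv := fun s => rfl
            right_inv := fun z => rfl }
      have h4 := (R : Subgroup A).card_mul_index
      rw [hR, Nat.card_congr (Subgroup.subgroupOfEquivOfLe (autInducedBy_le_autGroup hQS)).toEquiv] at h4
      rw [h2, h3, ← h4] at h1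
      have hpos : 0 < Nat.card (autInducedBy S Q) * Nat.card (Subgroup.center Q) :=
        Nat.mul_pos Nat.card_pos Nat.card_pos
      rw [hR]
      refine Nat.eq_of_mul_eq_mul_left hpos (h1.trans ?_)
      ring
    exact ⟨hp.toSylow (hidx ▸ R.not_dvd_index), rfl⟩
  · -- self-centralising
    have hQMp : IsPGroup p QM := ((hS.to_le hQS).of_equiv (Subgroup.subgroupOfEquivOfLe hQS).symm).map ιM
    have hle : QM ≤ pCore p (H ⧸ K) := Core.le_pCore hQMp
    intro m hm
    induction m using QuotientGroup.induction_on with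
    | H h =>
    have h1 : π h = 1 := by
      refine Subtype.ext (MulEquiv.ext fun q => ?_)
      have hmem : ιM (Subgroup.inclusion hQS q) ∈ QM := ⟨_, q.2, rfl⟩
      have h2 := Subgroup.mem_centralizer_iff.1 hm _ (hle hmem)
      have h3 : mk (ι' (Subgroup.inclusion hQS ((π h : MulAut Q) q)) * h) =
          mk (h * ι' (Subgroup.inclusion hQS q)) := congrArg mk (Subtype.ext (hπf h q))
      rw [map_mul, map_mul] at h3
      have h4 : ιM (Subgroup.inclusion hQS ((π h : MulAut Q) q)) = ιM (Subgroup.inclusion hQS q) :=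
        mul_right_cancel (h3.trans h2.symm)
      exact Subgroup.inclusion_injective hQS (hιinj h4)
    obtain ⟨z, hz⟩ := hCz h h1
    rw [show (h : H ⧸ K) = mk h from rfl, hz]
    exact hle ⟨_, (z : Q).2, rfl⟩

end CfsgLib.Fusion
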