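import Cfsg.Agent.Lib.Fusion.Biset.FreeTransfer
import Mathlib.GroupTheory.Index

/-!
# Crossed retractions from adapted transversals
-/

set_option autoImplicit false

namespace CfsgLib.Fusion.FreeTransfer

open MulAction

/-- If `S` fixes a point in each of its fixed orbits of `Z` on `H ⧸ S`, there is a crossed
homomorphism on `H` trivial on `S` which is a power map on `Z`. -/
theorem exists_crossed_retraction {H Z S : Type*} [Group H] [Finite H] [CommGroup Z] [Finite Z]
    [Group S] [Finite S] (j : Z →* H) (Δ : S →* H) (θ : H →* MulAut Z)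
    (hj : ∀ h z, h * j z = j (θ h z) * h) (hΔ : Function.Injective Δ)
    (hfree : ∀ z h, h⁻¹ * j z * h ∈ Δ.range → z = 1)
    (hpt : ∀ h : H, ∃ h' : H, (∃ z, h⁻¹ * j z * h' ∈ Δ.range) ∧
      ∀ s, (∃ z, h⁻¹ * j z * Δ s * h ∈ Δ.range) → h'⁻¹ * Δ s * h' ∈ Δ.range) :
    ∃ (r : H → Z) (M : ℕ), (∀ a b, r (a * b) = θ a (r b) * r a) ∧ (∀ s, r (Δ s) = 1) ∧
      (∀ z, r (j z) = z ^ M) ∧ Nat.card Z * M * Nat.card S = Nat.card H := by
  classical
  let _ : MulAction Z (H ⧸ Δ.range) := MulAction.compHom (H ⧸ Δ.range) j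
  have hθW : ∀ (h : H) (z : Z) (w : H ⧸ Δ.range), h • z • w = θ h z • h • w := fun h z w => by
    show h • j z • w = j (θ h z) • h • w
    rw [smul_smul, smul_smul, hj]
  have hf : ∀ (z : Z) (w : H ⧸ Δ.range), z • w = w → z = 1 := by
    intro z w hw
    induction w using QuotientGroup.induction_on with
    | H h =>
      have h1 := QuotientGroup.eq.1 (show ((j z * h : H) : H ⧸ Δ.range) = (h : H ⧸ Δ.range) from hw)
      refine hfree z h ?_
      have h2 := Δ.range.inv_mem h1
      simpa [mul_assoc] using h2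
  have : Fintype (orbitRel.Quotient Z (H ⧸ Δ.range)) := Fintype.ofFinite _
  let _ : MulAction S (orbitRel.Quotient Z (H ⧸ Δ.range)) :=
    { smul := fun s => orbMap hθW (Δ s)
      one_smul := fun o => by
        show orbMap hθW (Δ 1) o = o
        rw [map_one, orbMap_one]
      mul_smul := fun a b o => by
        show orbMap hθW (Δ (a * b)) o = _
        rw [map_mul, orbMap_mul]; rfl }
  have hpt' : ∀ o : orbitRel.Quotient Z (H ⧸ Δ.range), ∃ w : H ⧸ Δ.range,
      Quotient.mk'' w = o ∧ ∀ s : S, s • o = o → Δ s • w = w := by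
    intro o
    obtain ⟨w₀, rfl⟩ := Quotient.mk''_surjective o
    induction w₀ using QuotientGroup.induction_on with
    | H h =>
      obtain ⟨h', ⟨z, hz⟩, hfix⟩ := hpt h
      refine ⟨(h' : H ⧸ Δ.range), Quotient.sound' ⟨z⁻¹, ?_⟩, fun s hs => ?_⟩
      · show ((j z⁻¹ * h : H) : H ⧸ Δ.range) = _
        refine QuotientGroup.eq.2 ?_
        simpa [mul_assoc] using hz
      · obtain ⟨z', hz'⟩ := Quotient.exact' hs
        have h1 := QuotientGroup.eq.1
          (show ((j z' * h : H) : H ⧸ Δ.range) = ((Δ s * h : H) : H ⧸ Δ.range) from hz')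
        refine (QuotientGroup.eq.2 ?_).symm
        show h'⁻¹ * (Δ s * h') ∈ Δ.range
        rw [← mul_assoc]
        exact hfix s ⟨z'⁻¹, by simpa [mul_assoc] using h1⟩
  choose pt hpt₁ hpt₂ using hpt'
  let oq := orbitRel.Quotient S (orbitRel.Quotient Z (H ⧸ Δ.range))
  have hmove : ∀ o : orbitRel.Quotient Z (H ⧸ Δ.range), ∃ s : S,
      s • (Quotient.mk'' o : oq).out = o := fun o =>
    Quotient.exact' (Quotient.out_eq' (Quotient.mk'' o : oq)).symm
  choose mv hmv using hmove
  let sec : orbitRel.Quotient Z (H ⧸ Δ.range) → H ⧸ Δ.range :=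
    fun o => Δ (mv o) • pt (Quotient.mk'' o : oq).out
  have hsec : ∀ o, Quotient.mk'' (sec o) = o := fun o => by
    rw [← orbMap_mk hθW, hpt₁]
    exact hmv o
  have hequi : ∀ (s : S) o, Δ s • sec o = sec (orbMap hθW (Δ s) o) := by
    intro s o
    show Δ s • sec o = sec (s • o)
    have hq : (Quotient.mk'' (s • o) : oq) = Quotient.mk'' o := Quotient.sound' ⟨s, rfl⟩
    show Δ s • Δ (mv o) • pt _ = Δ (mv (s • o)) • pt _
    rw [hq, ← inv_smul_eq_iff, ← map_inv, smul_smul, smul_smul, ← map_mul, ← map_mul]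
    refine hpt₂ _ _ ?_
    rw [mul_smul, mul_smul, hmv, inv_smul_eq_iff, ← hq, hmv]
  refine ⟨transfer hθW sec hsec (MonoidHom.id Z), Fintype.card (orbitRel.Quotient Z (H ⧸ Δ.range)),
    transfer_mul hθW hf sec hsec (MonoidHom.id Z) θ fun _ _ => rfl,
    fun s => transfer_eq_one_of_section hθW hf sec hsec _ (hequi s),
    fun z => transfer_of_uniform hθW hf sec hsec (MonoidHom.id Z) (b := z) fun w => rfl, ?_⟩
  have h1 : Nat.card (H ⧸ Δ.range) =
      Nat.card Z * Fintype.card (orbitRel.Quotient Z (H ⧸ Δ.range)) := by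
    rw [← Nat.card_eq_fintype_card, ← Nat.card_prod]
    refine (Nat.card_congr (Equiv.ofBijective
      (fun c : Z × orbitRel.Quotient Z (H ⧸ Δ.range) => c.1 • c.2.out)
      ⟨fun a b h => ?_, fun w => ?_⟩)).symm
    · have ho : a.2 = b.2 := by
        rw [← a.2.out_eq', ← b.2.out_eq']
        refine Quotient.sound' ⟨a.1⁻¹ * b.1, ?_⟩
        show (a.1⁻¹ * b.1) • b.2.out = a.2.out
        rw [mul_smul, inv_smul_eq_iff]
        exact h.symm
      refine Prod.ext (smul_left_cancel' hf (w := b.2.out) ?_) ho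
      conv_lhs => rw [← ho]
      exact h
    · obtain ⟨b, hb⟩ := Quotient.exact'
        (Quotient.out_eq' (Quotient.mk'' w : orbitRel.Quotient Z (H ⧸ Δ.range))).symm
      exact ⟨⟨b, _⟩, hb⟩
  rw [← h1, Nat.card_congr (MonoidHom.ofInjective hΔ).toEquiv]
  exact (Subgroup.card_eq_card_quotient_mul_card_subgroup _).symm

end CfsgLib.Fusion.FreeTransfer
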