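import Cfsg.Agent.Lib.Fusion.Biset.ModelExists
import Cfsg.Agent.Lib.Fusion.Biset.CrossedRetraction
import Cfsg.Agent.Lib.Fusion.SubnormalConstrained

/-!
# Uniqueness of models
-/

set_option autoImplicit false

namespace CfsgLib.Fusion

open Cfsg Cfsg.FusionSystem MulAction
open scoped IsMulCommutative

variable {Ω : Type*} [Group Ω] {S : Subgroup Ω} {F : FusionSystem S} {p : ℕ}
variable {G : Type*} [Group G] {ι : S →* G}

/-- In a model the elements act on a normal subgroup as automorphisms of the system. -/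
theorem model_action [Fact p.Prime] (hG : F.IsModel p G ι) {Q : Subgroup Ω} (hQn : F.IsNormal Q)
    (g : G) : ∃ α ∈ F.autGroup Q, ∀ q : Q,
      g * ι (Subgroup.inclusion hQn.1 q) = ι (Subgroup.inclusion hQn.1 (α q)) * g := by
  have hQS := hQn.1
  have hcore := model_pCore_le hG
  have hOn := model_isNormal_coreBack hG
  have hON := IsNormal.normal_in hQn
  obtain ⟨hfin, ⟨hinj, hiff⟩, -, hcent⟩ := hG
  set O := coreBack p ι
  have hOS : O ≤ S := hOn.1
  have hmem : ∀ z : O, g * ι (Subgroup.inclusion hOS z) * g⁻¹ ∈ ι.range := fun z =>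
    hcore ((inferInstance : (pCore p G).Normal).conj_mem _
      ((mem_coreBack (s := Subgroup.inclusion hOS z)).1 z.2) g)
  let φ : O →* Ω := S.subtype.comp ((MonoidHom.ofInjective hinj).symm.toMonoidHom.comp
    (((MulAut.conj g).toMonoidHom.comp (ι.comp (Subgroup.inclusion hOS))).codRestrict ι.range hmem))
  have hφS : ∀ z, φ z ∈ S := fun z => ((MonoidHom.ofInjective hinj).symm _).2
  have hφv : ∀ z, ι ⟨φ z, hφS z⟩ = g * ι (Subgroup.inclusion hOS z) * g⁻¹ := fun z =>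
    MonoidHom.apply_ofInjective_symm hinj ⟨_, hmem z⟩
  obtain ⟨ψ, hψ, hψO, hψQ⟩ := hQn.2 O φ ((hiff O hOS φ hφS).2 ⟨g, hφv⟩)
  obtain ⟨g', hg'⟩ := (hiff _ (hom_le hψ) ψ (hom_apply_mem hψ)).1 hψ
  have hd : g'⁻¹ * g ∈ pCore p G := by
    refine hcent (Subgroup.mem_centralizer_iff.2 fun y hy => ?_)
    obtain ⟨t, ht⟩ := hcore hy
    have htO : (t : Ω) ∈ O := mem_coreBack.2 (show ι t ∈ pCore p G from ht ▸ hy)
    have h1 : ι ⟨ψ (Subgroup.inclusion le_sup_left (⟨t, htO⟩ : O)), hom_apply_mem hψ _⟩ =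
        g' * ι t * g'⁻¹ := hg' _
    have h2 : ι ⟨ψ (Subgroup.inclusion le_sup_left (⟨t, htO⟩ : O)), hom_apply_mem hψ _⟩ =
        g * ι t * g⁻¹ := by
      rw [show (⟨ψ (Subgroup.inclusion le_sup_left (⟨t, htO⟩ : O)), hom_apply_mem hψ _⟩ : S) =
        ⟨φ ⟨t, htO⟩, hφS _⟩ from Subtype.ext (hψO _), hφv]
      rfl
    have h3 := h1.symm.trans h2
    calc y * (g'⁻¹ * g) = g'⁻¹ * (g' * ι t * g'⁻¹) * g := by rw [ht]; group
      _ = g'⁻¹ * (g * ι t * g⁻¹) * g := by rw [h3]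
      _ = g'⁻¹ * g * y := by rw [ht]; group
  obtain ⟨o, ho⟩ := hcore hd
  have hrQ : (ψ.comp (Subgroup.inclusion (le_sup_right : Q ≤ O ⊔ Q))).range = Q := by
    rw [range_restrict]; exact hψQ
  obtain ⟨e, he, hev⟩ := exists_iso (restrict_mem hψ (le_sup_right : Q ≤ O ⊔ Q)) hrQ
  refine ⟨(e : MulAut Q) * conjAut (⟨o, o.2, hON o.2⟩ : normalizerIn S Q),
    mul_mem ((mem_autGroup_iff_isoIn hQS).2 he) (autInducedBy_le_autGroup hQS (conjAut_mem _)),
    fun q => ?_⟩
  set q' := conjAut (⟨o, o.2, hON o.2⟩ : normalizerIn S Q) q with hq'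
  have hq'v : Subgroup.inclusion hQS q' = o * Subgroup.inclusion hQS q * o⁻¹ :=
    Subtype.ext (conjAut_apply _ q)
  have h1 : ι (Subgroup.inclusion hQS (e q')) = g' * ι (Subgroup.inclusion hQS q') * g'⁻¹ := by
    rw [show Subgroup.inclusion hQS (e q') =
      ⟨ψ (Subgroup.inclusion le_sup_right q'), hom_apply_mem hψ _⟩ from Subtype.ext (hev q')]
    exact hg' _
  show g * ι (Subgroup.inclusion hQS q) = ι (Subgroup.inclusion hQS (e q')) * g
  rw [h1, hq'v, map_mul, map_mul, map_inv, ho]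
  group

/-- The centraliser of the core in a model. -/
theorem model_centralizer_core [Fact p.Prime] (hG : F.IsModel p G ι) [Finite S] {x : G}
    (hx : ∀ q : F.core, x * ι (Subgroup.inclusion core_le q) = ι (Subgroup.inclusion core_le q) * x) :
    ∃ z : Subgroup.center F.core, x = ι (Subgroup.inclusion core_le (z : F.core)) := by
  have hcore := model_pCore_le hG
  have hle : coreBack p ι ≤ F.core := le_core (model_isNormal_coreBack hG)
  obtain ⟨hfin, ⟨hinj, -⟩, -, hcent⟩ := hG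
  have hx1 : x ∈ pCore p G := hcent (Subgroup.mem_centralizer_iff.2 fun y hy => by
    obtain ⟨t, ht⟩ := hcore hy
    have h := hx ⟨t, hle (mem_coreBack.2 (show ι t ∈ pCore p G from ht ▸ hy))⟩
    rw [show (ι (Subgroup.inclusion core_le _)) = y from ht] at h
    exact h.symm)
  obtain ⟨t, rfl⟩ := hcore hx1
  refine ⟨⟨⟨t, hle (mem_coreBack.2 hx1)⟩, Subgroup.mem_center_iff.2 fun q => ?_⟩, rfl⟩
  exact Subgroup.inclusion_injective core_le (hinj (by
    rw [map_mul, map_mul, map_mul, map_mul]; exact (hx q).symm))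

theorem model_action_unique (hinj : Function.Injective ι) {Q : Subgroup Ω} (hQS : Q ≤ S) {g : G}
    {α β : MulAut Q}
    (hα : ∀ q : Q, g * ι (Subgroup.inclusion hQS q) = ι (Subgroup.inclusion hQS (α q)) * g)
    (hβ : ∀ q : Q, g * ι (Subgroup.inclusion hQS q) = ι (Subgroup.inclusion hQS (β q)) * g) :
    α = β :=
  MulEquiv.ext fun q => Subgroup.inclusion_injective hQS
    (hinj (mul_right_cancel ((hα q).symm.trans (hβ q))))

theorem isPGroup_center_core [Finite S] (hS : IsPGroup p S) :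
    IsPGroup p (Subgroup.center F.core) := (hS.to_le core_le).to_subgroup _

set_option maxHeartbeats 800000 in
/-- Two models of a constrained system are isomorphic over `S`. -/
theorem model_iso [Fact p.Prime] [Finite S] (hS : IsPGroup p S) (hF : F.IsConstrained p)
    {G₁ G₂ : Type*} [Group G₁] [Group G₂] {ι₁ : S →* G₁} {ι₂ : S →* G₂}
    (h₁ : F.IsModel p G₁ ι₁) (h₂ : F.IsModel p G₂ ι₂) :
    ∃ φ : G₁ ≃* G₂, ∀ x : S, φ (ι₁ x) = ι₂ x := by
  classical
  obtain ⟨hQn, hQc⟩ := exists_normal_centric_core hF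
  have hQS : F.core ≤ S := core_le
  have hQN := IsNormal.normal_in hQn
  have := finite_le hQS
  have hfin₁ := h₁.1
  have hfin₂ := h₂.1
  have hinj₁ := h₁.2.1.1
  have hinj₂ := h₂.2.1.1
  set Z := Subgroup.center F.core
  set inc := Subgroup.inclusion hQS with hinc
  -- the pairs acting alike on the core
  let H : Subgroup (G₁ × G₂) :=
    { carrier := {g | ∃ α : MulAut F.core,
        (∀ q, g.1 * ι₁ (inc q) = ι₁ (inc (α q)) * g.1) ∧
        ∀ q, g.2 * ι₂ (inc q) = ι₂ (inc (α q)) * g.2}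
      one_mem' := ⟨1, fun q => by simp, fun q => by simp⟩
      mul_mem' := by
        rintro a b ⟨α, ha, ha'⟩ ⟨β, hb, hb'⟩
        refine ⟨α * β, fun q => ?_, fun q => ?_⟩
        · rw [Prod.fst_mul, mul_assoc, hb, ← mul_assoc, ha, mul_assoc]; rfl
        · rw [Prod.snd_mul, mul_assoc, hb', ← mul_assoc, ha', mul_assoc]; rfl
      inv_mem' := by
        rintro a ⟨α, ha, ha'⟩
        refine ⟨α⁻¹, fun q => ?_, fun q => ?_⟩
        · have h := ha (α⁻¹ q)
          rw [MulAut.apply_inv_self] at h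
          rw [Prod.fst_inv, inv_mul_eq_iff_eq_mul, ← mul_assoc, h, mul_inv_cancel_right]
        · have h := ha' (α⁻¹ q)
          rw [MulAut.apply_inv_self] at h
          rw [Prod.snd_inv, inv_mul_eq_iff_eq_mul, ← mul_assoc, h, mul_inv_cancel_right] }
  have hex : ∀ h : H, ∃ α : MulAut F.core,
      (∀ q, (h : G₁ × G₂).1 * ι₁ (inc q) = ι₁ (inc (α q)) * (h : G₁ × G₂).1) ∧
      ∀ q, (h : G₁ × G₂).2 * ι₂ (inc q) = ι₂ (inc (α q)) * (h : G₁ × G₂).2 := fun h => h.2
  choose αf hαf₁ hαf₂ using hex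
  have huniq : ∀ (h : H) (β : MulAut F.core),
      (∀ q, (h : G₁ × G₂).1 * ι₁ (inc q) = ι₁ (inc (β q)) * (h : G₁ × G₂).1) → αf h = β :=
    fun h β hβ => model_action_unique hinj₁ hQS (hαf₁ h) hβ
  let π : H →* MulAut F.core := MonoidHom.mk' αf fun a b => huniq _ _ fun q => by
    rw [Subgroup.coe_mul, Prod.fst_mul, mul_assoc, hαf₁ b, ← mul_assoc, hαf₁ a, mul_assoc]; rfl
  let θ : H →* MulAut Z := MonoidHom.mk' (fun h => Subgroup.centerCongr (π h)) fun a b => by
    rw [map_mul]; exact MulEquiv.ext fun z => Subtype.ext rfl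
  -- embeddings
  have hcentral : ∀ (z : Z) (q : F.core), inc (z : F.core) * inc q = inc q * inc (z : F.core) :=
    fun z q => by rw [← map_mul, ← map_mul, Subgroup.mem_center_iff.1 z.2 q]
  let j : Z →* H :=
    { toFun := fun z => ⟨(ι₁ (inc (z : F.core)), 1), 1,
        fun q => by rw [← map_mul, hcentral, map_mul]; rfl, fun q => by simp⟩
      map_one' := Subtype.ext (Prod.ext (by simp) rfl)
      map_mul' := fun a b => Subtype.ext (Prod.ext (by simp) (by simp)) }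
  let Δ : S →* H := (ι₁.prod ι₂).codRestrict H fun s =>
    ⟨conjAut (⟨s, s.2, hQN s.2⟩ : normalizerIn S F.core), fun q => by
      show ι₁ s * ι₁ (inc q) = ι₁ _ * ι₁ s
      rw [← map_mul, ← map_mul]
      exact congrArg ι₁ (Subtype.ext (inv_mul_cancel_right _ _).symm), fun q => by
      show ι₂ s * ι₂ (inc q) = ι₂ _ * ι₂ s
      rw [← map_mul, ← map_mul]
      exact congrArg ι₂ (Subtype.ext (inv_mul_cancel_right _ _).symm)⟩
  have hθj : ∀ (h : H) (z : Z), h * j z = j (θ h z) * h := fun h z => Subtype.ext (Prod.ext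
    (hαf₁ h (z : F.core))
    (show (h : G₁ × G₂).2 * 1 = 1 * (h : G₁ × G₂).2 by rw [mul_one, one_mul]))
  have hcj : ∀ (h : H) (z : Z), (h⁻¹ * j z * h : H) ∈ Δ.range → z = 1 := by
    rintro h z ⟨s, hs⟩
    have hs1 : ι₁ s = ((h : G₁ × G₂).1)⁻¹ * ι₁ (inc (z : F.core)) * (h : G₁ × G₂).1 :=
      congrArg (fun k : H => (k : G₁ × G₂).1) hs
    have hs2 : ι₂ s = ((h : G₁ × G₂).2)⁻¹ * 1 * (h : G₁ × G₂).2 :=
      congrArg (fun k : H => (k : G₁ × G₂).2) hs
    rw [mul_one, inv_mul_cancel] at hs2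
    rw [(injective_iff_map_eq_one _).1 hinj₂ s hs2, map_one, mul_assoc, eq_comm,
      inv_mul_eq_one, eq_comm, mul_eq_right] at hs1
    exact Subtype.ext (Subgroup.inclusion_injective hQS
      ((injective_iff_map_eq_one _).1 hinj₁ _ hs1))
  -- each orbit has a point fixed by its stabiliser in `S`
  have hpt : ∀ h : H, ∃ h' : H, (∃ z : Z, h⁻¹ * j z * h' ∈ Δ.range) ∧
      ∀ s, (∃ z : Z, h⁻¹ * j z * Δ s * h ∈ Δ.range) → h'⁻¹ * Δ s * h' ∈ Δ.range := by
    intro h
    set g₁ := (h : G₁ × G₂).1 with hg₁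
    set g₂ := (h : G₁ × G₂).2 with hg₂
    let P : Subgroup Ω := ((ι₁.range.comap (MulAut.conj g₁⁻¹).toMonoidHom).comap ι₁).map S.subtype
    have hPS : P ≤ S := Subgroup.map_subtype_le _
    have hPmem : ∀ s : S, (s : Ω) ∈ P ↔ g₁⁻¹ * ι₁ s * g₁ ∈ ι₁.range := fun s => by
      constructor
      · rintro ⟨t, ht, hts⟩
        rw [← Subtype.ext hts]
        simpa using ht
      · intro hs
        exact ⟨s, by simpa using hs, rfl⟩
    have hαinv : ∀ q, g₁⁻¹ * ι₁ (inc q) * g₁ = ι₁ (inc ((αf h)⁻¹ q)) := fun q => by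
      have h1 := hαf₁ h ((αf h)⁻¹ q)
      rw [MulAut.apply_inv_self] at h1
      rw [mul_assoc, ← h1, inv_mul_cancel_left]
    have hQP : F.core ≤ P := fun q hq => (hPmem (inc ⟨q, hq⟩)).2 ⟨_, (hαinv _).symm⟩
    let φ : P →* Ω := S.subtype.comp ((MonoidHom.ofInjective hinj₁).symm.toMonoidHom.comp
      (((MulAut.conj g₁⁻¹).toMonoidHom.comp (ι₁.comp (Subgroup.inclusion hPS))).codRestrict
        ι₁.range fun x => by simpa using (hPmem (Subgroup.inclusion hPS x)).1 x.2))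
    have hφS : ∀ x, φ x ∈ S := fun x => ((MonoidHom.ofInjective hinj₁).symm _).2
    have hφv : ∀ x, ι₁ ⟨φ x, hφS x⟩ = g₁⁻¹ * ι₁ (Subgroup.inclusion hPS x) * g₁⁻¹⁻¹ := fun x =>
      MonoidHom.apply_ofInjective_symm hinj₁ ⟨_, by simpa using (hPmem (Subgroup.inclusion hPS x)).1 x.2⟩
    obtain ⟨k, hk⟩ := (h₂.2.1.2 P hPS φ hφS).1 ((h₁.2.1.2 P hPS φ hφS).2 ⟨g₁⁻¹, hφv⟩)
    obtain ⟨z₀, hz₀⟩ := model_centralizer_core h₂ (x := k * g₂) (fun q => by
      have hx : inc (αf h q) = Subgroup.inclusion hPS (Subgroup.inclusion hQP (αf h q)) := rfl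
      have h1 := hk (Subgroup.inclusion hQP (αf h q))
      have h2 : (⟨φ (Subgroup.inclusion hQP (αf h q)), hφS _⟩ : S) = inc q := hinj₁ (by
        rw [hφv, ← hx, inv_inv, hαinv, MulAut.inv_apply_self])
      rw [h2] at h1
      show k * g₂ * ι₂ (inc q) = ι₂ (inc q) * (k * g₂)
      rw [mul_assoc, hαf₂ h q, h1, show (⟨((Subgroup.inclusion hQP (αf h q) : P) : Ω),
        hPS (Subgroup.inclusion hQP (αf h q)).2⟩ : S) = inc (αf h q) from rfl]
      group
      rfl)
    -- `g₂ = k⁻¹ ι₂ z₀`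
    refine ⟨h * (j z₀ * Δ (inc (z₀ : F.core))⁻¹), ⟨(θ h z₀)⁻¹, (inc (z₀ : F.core))⁻¹, ?_⟩,
      fun s hs => ?_⟩
    · rw [map_inv, map_inv, ← mul_assoc h, hθj]
      group
    · obtain ⟨z, t, ht⟩ := hs
      have ht1 : ι₁ t = g₁⁻¹ * ι₁ (inc (z : F.core)) * ι₁ s * g₁ :=
        congrArg (fun k : H => (k : G₁ × G₂).1) ht
      have hsP : (s : Ω) ∈ P := (hPmem s).2 ⟨(inc ((αf h)⁻¹ (z⁻¹ : Z))) * t, by
        rw [map_mul, ← hαinv, ht1, Subgroup.coe_inv, map_inv, map_inv]; group⟩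
      refine ⟨(⟨φ ⟨s, hsP⟩, hφS _⟩ : S), ?_⟩
      have h1 := hφv ⟨(s : Ω), hsP⟩
      have h2 := hk ⟨(s : Ω), hsP⟩
      refine Subtype.ext (Prod.ext ?_ ?_)
      · show ι₁ _ = (g₁ * (ι₁ (inc (z₀ : F.core)) * ι₁ ((inc (z₀ : F.core))⁻¹)))⁻¹ *
          ι₁ s * (g₁ * (ι₁ (inc (z₀ : F.core)) * ι₁ ((inc (z₀ : F.core))⁻¹)))
        rw [h1, show Subgroup.inclusion hPS ⟨(s : Ω), hsP⟩ = s from rfl, map_inv]
        group
      · show ι₂ _ = (g₂ * (1 * ι₂ ((inc (z₀ : F.core))⁻¹)))⁻¹ *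
          ι₂ s * (g₂ * (1 * ι₂ ((inc (z₀ : F.core))⁻¹)))
        rw [h2, show (⟨((⟨(s : Ω), hsP⟩ : P) : Ω), hPS hsP⟩ : S) = s from rfl, one_mul, map_inv, ← hz₀]
        group
  obtain ⟨r, M, hr, hrΔ, hrj, hM⟩ := FreeTransfer.exists_crossed_retraction j Δ θ hθj
    (fun a b hab => hinj₁ (congrArg (fun k : H => (k : G₁ × G₂).1) hab)) (fun z h => hcj h z) hpt
  have hr1 : r 1 = 1 := by
    have := hrΔ 1
    rwa [map_one] at this
  let K : Subgroup H :=
    { carrier := {h | r h = 1}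
      one_mem' := hr1
      mul_mem' := fun {a b} ha hb => by
        show r (a * b) = 1
        rw [hr, ha, hb, map_one, one_mul]
      inv_mem' := fun {a} ha => by
        show r a⁻¹ = 1
        have h := hr a⁻¹ a
        rw [inv_mul_cancel, hr1, ha, map_one, one_mul] at h
        exact h.symm }
  let pr₁ : H →* G₁ := (MonoidHom.fst G₁ G₂).comp H.subtype
  let pr₂ : H →* G₂ := (MonoidHom.snd G₁ G₂).comp H.subtype
  have hker₁ : ∀ h : H, pr₁ h = 1 → ∃ z : Z, h = j z⁻¹ * Δ (inc (z : F.core)) := fun h hh => by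
    have hα : αf h = 1 := huniq h 1 fun q => by
      rw [show (h : G₁ × G₂).1 = 1 from hh, one_mul, mul_one]; rfl
    obtain ⟨z, hz⟩ := model_centralizer_core h₂ (x := pr₂ h) (fun q => by
      have h1 := hαf₂ h q
      rw [hα] at h1
      exact h1)
    refine ⟨z, Subtype.ext (Prod.ext ?_ ?_)⟩
    · show (h : G₁ × G₂).1 = ι₁ (inc ((z⁻¹ : Z) : F.core)) * ι₁ (inc (z : F.core))
      rw [show (h : G₁ × G₂).1 = 1 from hh, ← map_mul, ← map_mul, ← Subgroup.coe_mul, inv_mul_cancel]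
      simp
    · show (h : G₁ × G₂).2 = 1 * ι₂ (inc (z : F.core))
      rw [one_mul]; exact hz
  have hker₂ : ∀ h : H, pr₂ h = 1 → ∃ z : Z, h = j z := fun h hh => by
    have hα : αf h = 1 := model_action_unique hinj₂ hQS (hαf₂ h) fun q => by
      rw [show (h : G₁ × G₂).2 = 1 from hh, one_mul, mul_one]; rfl
    obtain ⟨z, hz⟩ := model_centralizer_core h₁ (x := pr₁ h) (fun q => by
      have h1 := hαf₁ h q
      rw [hα] at h1
      exact h1)
    exact ⟨z, Subtype.ext (Prod.ext hz hh)⟩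
  have hsurj₁ : Function.Surjective pr₁ := fun g₁ => by
    obtain ⟨α, hα, hv⟩ := model_action h₁ hQn g₁
    obtain ⟨k, hk⟩ := (h₂.2.1.2 F.core hQS _ (fun q => hQS (α q).2)).1 ((mem_autGroup_iff hQS).1 hα)
    exact ⟨⟨(g₁, k), α, hv, fun q => (eq_mul_inv_iff_mul_eq.1 (hk q)).symm⟩, rfl⟩
  have hsurj₂ : Function.Surjective pr₂ := fun g₂ => by
    obtain ⟨α, hα, hv⟩ := model_action h₂ hQn g₂
    obtain ⟨k, hk⟩ := (h₁.2.1.2 F.core hQS _ (fun q => hQS (α q).2)).1 ((mem_autGroup_iff hQS).1 hα)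
    exact ⟨⟨(k, g₂), α, fun q => (eq_mul_inv_iff_mul_eq.1 (hk q)).symm, hv⟩, rfl⟩
  have hpM : ¬ p ∣ M := by
    have h2 : Nat.card H = Nat.card G₁ * Nat.card pr₁.ker := by
      rw [← pr₁.ker.card_mul_index, Subgroup.index_ker, MonoidHom.range_eq_top.2 hsurj₁,
        Subgroup.card_top, mul_comm]
    have h3 : Nat.card pr₁.ker = Nat.card Z := by
      refine (Nat.card_congr (Equiv.ofBijective
        (fun z : Z => (⟨j z⁻¹ * Δ (inc (z : F.core)), ?_⟩ : pr₁.ker)) ⟨fun a b hab => ?_, ?_⟩)).symm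
      · show ι₁ (inc ((z⁻¹ : Z) : F.core)) * ι₁ (inc (z : F.core)) = 1
        rw [← map_mul, ← map_mul, ← Subgroup.coe_mul, inv_mul_cancel]
        simp
      · have h4 := congrArg (fun k : pr₁.ker => ((k : H) : G₁ × G₂).2) hab
        refine Subtype.ext (Subgroup.inclusion_injective hQS (hinj₂ ?_))
        simpa [Δ, j] using h4
      · rintro ⟨h, hh⟩
        obtain ⟨z, hz⟩ := hker₁ h hh
        exact ⟨z, Subtype.ext hz.symm⟩
    have h5 := hM
    obtain ⟨T, hT⟩ := h₁.2.2.1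
    have h6 := (T : Subgroup G₁).card_mul_index
    rw [hT, ← Nat.card_congr (MonoidHom.ofInjective hinj₁).toEquiv] at h6
    rw [h2, h3, ← h6] at h5
    have h7 : M = ι₁.range.index := by
      refine Nat.eq_of_mul_eq_mul_left (Nat.mul_pos (Nat.card_pos (α := Z)) (Nat.card_pos (α := S))) ?_
      linarith
    rw [h7, ← hT]
    exact T.not_dvd_index
  have hpow := exists_pow_of_coprime (isPGroup_center_core (F := F) hS) hpM
  have hbij₁ : Function.Bijective (pr₁.comp K.subtype) := by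
    refine ⟨(injective_iff_map_eq_one _).2 fun k hk => ?_, fun g => ?_⟩
    · obtain ⟨z, hz⟩ := hker₁ k hk
      have h1 : r (k : H) = 1 := k.2
      rw [hz, hr, hrΔ, map_one, one_mul, hrj] at h1
      have h2 : z⁻¹ = 1 := hpow.1 (h1.trans (one_pow M).symm)
      refine Subtype.ext ?_
      rw [hz, h2, inv_eq_one.1 h2]
      simp
    · obtain ⟨h, rfl⟩ := hsurj₁ g
      obtain ⟨z, hz⟩ := hpow.2 ((θ h)⁻¹ (r h))
      refine ⟨⟨h * (j z⁻¹ * Δ (inc (z : F.core))), ?_⟩, ?_⟩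
      · show r _ = 1
        rw [hr, hr, hrΔ, map_one, one_mul, hrj, inv_pow, show z ^ M = _ from hz, map_inv,
          MulAut.apply_inv_self, inv_mul_cancel]
      · show (h : G₁ × G₂).1 * (ι₁ (inc ((z⁻¹ : Z) : F.core)) * ι₁ (inc (z : F.core))) = _
        rw [← map_mul, ← map_mul, ← Subgroup.coe_mul, inv_mul_cancel]
        simp [pr₁]
  have hbij₂ : Function.Bijective (pr₂.comp K.subtype) := by
    refine ⟨(injective_iff_map_eq_one _).2 fun k hk => ?_, fun g => ?_⟩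
    · obtain ⟨z, hz⟩ := hker₂ k hk
      have h1 : r (k : H) = 1 := k.2
      rw [hz, hrj] at h1
      have h2 : z = 1 := hpow.1 (h1.trans (one_pow M).symm)
      exact Subtype.ext (by rw [hz, h2, map_one]; rfl)
    · obtain ⟨h, rfl⟩ := hsurj₂ g
      obtain ⟨z, hz⟩ := hpow.2 ((θ h)⁻¹ (r h)⁻¹)
      refine ⟨⟨h * j z, ?_⟩, ?_⟩
      · show r _ = 1
        rw [hr, hrj, show z ^ M = _ from hz, MulAut.apply_inv_self, inv_mul_cancel]
      · show (h : G₁ × G₂).2 * 1 = _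
        rw [mul_one]; rfl
  refine ⟨(MulEquiv.ofBijective _ hbij₁).symm.trans (MulEquiv.ofBijective _ hbij₂), fun s => ?_⟩
  have hs : (MulEquiv.ofBijective _ hbij₁) ⟨Δ s, hrΔ s⟩ = ι₁ s := rfl
  rw [MulEquiv.trans_apply, ← hs, MulEquiv.symm_apply_apply]
  rfl

/-- An automorphism of a model fixing `S` is conjugation by a central element of `S`. -/
theorem model_rigid [Fact p.Prime] [Finite S] (hS : IsPGroup p S) (hF : F.IsConstrained p)
    (hG : F.IsModel p G ι) (ψ : G ≃* G) (hψ : ∀ x : S, ψ (ι x) = ι x) :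
    ∃ z : S, z ∈ Subgroup.center S ∧ ∀ g : G, ψ g = ι z * g * (ι z)⁻¹ := by
  classical
  obtain ⟨hQn, hQc⟩ := exists_normal_centric_core hF
  have hQS : F.core ≤ S := core_le
  have hQN := IsNormal.normal_in hQn
  have := finite_le hQS
  have hfin := hG.1
  have hinj := hG.2.1.1
  set inc := Subgroup.inclusion hQS
  have hE : ∀ g : G, ∃ z : Subgroup.center F.core, ψ g = ι (inc (z : F.core)) * g := by
    intro g
    obtain ⟨α, -, hv⟩ := model_action hG hQn g
    obtain ⟨z, hz⟩ := model_centralizer_core hG (x := ψ g * g⁻¹) (fun q => by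
      show ψ g * g⁻¹ * ι (inc q) = ι (inc q) * (ψ g * g⁻¹)
      have h1 := hv (α⁻¹ q)
      rw [MulAut.apply_inv_self] at h1
      have h2 := congrArg ψ h1
      rw [map_mul, map_mul, hψ, hψ] at h2
      calc ψ g * g⁻¹ * ι (inc q) = ψ g * (g⁻¹ * (ι (inc q) * g)) * g⁻¹ := by group
        _ = ψ g * ι (inc (α⁻¹ q)) * g⁻¹ := by rw [← h1, inv_mul_cancel_left]
        _ = ι (inc q) * (ψ g * g⁻¹) := by rw [h2, mul_assoc])
    exact ⟨z, by rw [← hz]; group⟩
  choose E hE using hE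
  have hEuniq : ∀ (g : G) (z : Subgroup.center F.core), ψ g = ι (inc (z : F.core)) * g → E g = z :=
    fun g z hz => Subtype.ext (Subgroup.inclusion_injective hQS
      (hinj (mul_right_cancel ((hE g).symm.trans hz))))
  have hαex : ∀ g : G, ∃ α ∈ F.autGroup F.core, ∀ q : F.core,
      g * ι (inc q) = ι (inc (α q)) * g := fun g => model_action hG hQn g
  choose α hαA hα using hαex
  have hmul : ∀ a b, E (a * b) = E a * Subgroup.centerCongr (α a) (E b) := fun a b => hEuniq _ _ (by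
    rw [map_mul, hE a, hE b, Subgroup.coe_mul, map_mul, map_mul, mul_assoc (ι _) a,
      ← mul_assoc a, hα a, mul_assoc, mul_assoc]
    rfl)
  have hES : ∀ s : S, E (ι s) = 1 := fun s => hEuniq _ _ (by rw [hψ]; simp)
  set T := ι.range
  have : Fintype (G ⧸ T) := Fintype.ofFinite _
  have hco : ∀ a b : G, (a : G ⧸ T) = b → E a = E b := fun a b h => by
    obtain ⟨s, hs⟩ := QuotientGroup.eq.1 h
    rw [show b = a * ι s by rw [hs, mul_inv_cancel_left], hmul, hES, map_one, mul_one]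
  set z₀ := ∏ c : G ⧸ T, E c.out with hz₀
  have hsum : ∀ a, z₀ = E a ^ Fintype.card (G ⧸ T) * Subgroup.centerCongr (α a) z₀ := fun a => by
    rw [Fintype.card, ← Finset.prod_const, hz₀, map_prod, ← Finset.prod_mul_distrib]
    conv_lhs => rw [← Equiv.prod_comp (MulAction.toPerm a)]
    refine Finset.prod_congr rfl fun c _ => ?_
    rw [← hmul]
    refine hco _ _ ?_
    rw [QuotientGroup.out_eq', MulAction.toPerm_apply, ← smul_eq_mul, ← MulAction.Quotient.smul_coe,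
      QuotientGroup.out_eq']
  have hpN : ¬ p ∣ Fintype.card (G ⧸ T) := by
    obtain ⟨R, hR⟩ := hG.2.2.1
    rw [← Nat.card_eq_fintype_card, ← Subgroup.index_eq_card, show T = (R : Subgroup G) from hR.symm]
    exact R.not_dvd_index
  have hpow := exists_pow_of_coprime (isPGroup_center_core (F := F) hS) hpN
  obtain ⟨w, hw⟩ := hpow.2 z₀
  have hEw : ∀ a, E a = w * (Subgroup.centerCongr (α a) w)⁻¹ := fun a => hpow.1 (by
    show E a ^ _ = (w * (Subgroup.centerCongr (α a) w)⁻¹) ^ _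
    rw [mul_pow, inv_pow, ← map_pow, show w ^ _ = z₀ from hw]
    exact eq_mul_inv_of_mul_eq (hsum a).symm)
  refine ⟨inc (w : F.core), Subgroup.mem_center_iff.2 fun s => hinj ?_, fun g => ?_⟩
  · have h1 := hEw (ι s)
    rw [hES, eq_comm, mul_inv_eq_one] at h1
    have h2 : ι s * ι (inc (w : F.core)) = ι (inc (α (ι s) (w : F.core))) * ι s := hα _ _
    rw [map_mul, map_mul, h2]
    exact congrArg (fun z : Subgroup.center F.core => ι (inc (z : F.core)) * ι s) h1.symm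
  · have h3 := hα g (w : F.core)
    rw [hE g, hEw, Subgroup.coe_mul, map_mul, map_mul, Subgroup.coe_inv, map_inv, map_inv,
      mul_assoc (ι (inc (w : F.core))) g]
    show _ * (ι (inc (α g (w : F.core))))⁻¹ * g = _
    rw [eq_mul_inv_of_mul_eq h3.symm]
    group

end CfsgLib.Fusion
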