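import Cfsg.Agent.Lib.Fusion.Biset.Park
import Cfsg.Agent.Lib.Fusion.CentricNormal
import Cfsg.Agent.Lib.Fusion.Series

/-!
# The transfer to the centre of a normal centric subgroup
-/

set_option autoImplicit false

namespace CfsgLib.Fusion

open Cfsg Cfsg.FusionSystem MulAction Marks
open scoped IsMulCommutative

universe u

variable {Ω : Type u} [Group Ω] {S : Subgroup Ω} {F : FusionSystem S} {p : ℕ}
  {X : Type u} [MulAction (↥S × ↥S) X]

section

variable {Q : Subgroup Ω} (hQS : Q ≤ S)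

/-- `x` intertwines left multiplication by `Q` with right multiplication through `α`. -/
def HasMap (α : MulAut Q) (x : X) : Prop :=
  ∀ q : Q, ((Subgroup.inclusion hQS q, Subgroup.inclusion hQS (α q)) : ↥S × ↥S) • x = x

theorem HasMap.unique (hX : IsSemicharBiset F X) {α β : MulAut Q} {x : X}
    (hα : HasMap hQS α x) (hβ : HasMap hQS β x) : α = β := by
  refine MulEquiv.ext fun q => ?_
  have h : (((Subgroup.inclusion hQS q, Subgroup.inclusion hQS (α q)) : ↥S × ↥S)⁻¹ *
      (Subgroup.inclusion hQS q, Subgroup.inclusion hQS (β q))) • x = x := by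
    rw [mul_smul, hβ q, inv_smul_eq_iff, hα q]
  rw [Prod.inv_mk, Prod.mk_mul_mk, inv_mul_cancel] at h
  exact Subgroup.inclusion_injective hQS (inv_mul_eq_one.1 (hX.right_free _ _ h))

theorem exists_hasMap [Finite S] (hX : IsSemicharBiset F X) (hQ : F.StronglyClosed Q) {x : X}
    (h : ∀ q : Q, ∃ b : S, ((Subgroup.inclusion hQS q, b) : ↥S × ↥S) • x = x) :
    ∃ α ∈ F.autGroup Q, HasMap hQS α x := by
  obtain ⟨P, φ, hφ, hT⟩ := hX.twisted x
  obtain ⟨ψ, hψ, -, hψl, -⟩ := exists_inv hφ rfl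
  have hQr : Q ≤ φ.range := fun q hq => by
    obtain ⟨b, hb⟩ := h ⟨q, hq⟩
    obtain ⟨hbP, e⟩ := (hT _).1 (mem_stabilizer_iff.2 hb)
    exact ⟨_, e⟩
  have hres := restrict_mem hψ hQr
  obtain ⟨e, he, hev⟩ := exists_iso hres ((StronglyClosed.weaklyClosed hQ).2 _ hres)
  refine ⟨e, (mem_autGroup_iff_isoIn hQS).2 he, fun q => ?_⟩
  obtain ⟨b, hb⟩ := h q
  obtain ⟨hbP, e1⟩ := (hT _).1 (mem_stabilizer_iff.2 hb)
  have h2 : ((e q : Q) : Ω) = (b : Ω) := by
    rw [hev]
    show ψ ⟨(q : Ω), hQr q.2⟩ = b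
    rw [show (⟨(q : Ω), hQr q.2⟩ : φ.range) = ⟨φ ⟨_, hbP⟩, ⟨_, rfl⟩⟩ from Subtype.ext e1.symm]
    exact hψl _ _
  rw [show Subgroup.inclusion hQS (e q) = b from Subtype.ext h2]
  exact hb

theorem HasMap.right {α : MulAut Q} {x : X} (hα : HasMap hQS α x) (s : S)
    (β : MulAut Q) (hβ : ∀ q : Q, ((β q : Q) : Ω) = s * (q : Ω) * (s : Ω)⁻¹) :
    HasMap hQS (β * α) (((1, s) : ↥S × ↥S) • x) := fun q => by
  have e : ((Subgroup.inclusion hQS q, Subgroup.inclusion hQS ((β * α) q)) : ↥S × ↥S) * (1, s) =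
      (1, s) * (Subgroup.inclusion hQS q, Subgroup.inclusion hQS (α q)) := by
    refine Prod.ext (by simp) (Subtype.ext ?_)
    show ((β (α q) : Q) : Ω) * s = s * ((α q : Q) : Ω)
    rw [hβ, inv_mul_cancel_right]
  rw [smul_smul, e, mul_smul, hα q]

theorem HasMap.park {α : MulAut Q} {x : X} (hα : HasMap hQS α x) (g : parkGroup S X)
    (β : MulAut Q)
    (hg : ∀ q : Q, parkEmb S X (Subgroup.inclusion hQS (β q)) * g =
      g * parkEmb S X (Subgroup.inclusion hQS q)) :
    HasMap hQS (α * β⁻¹) ((g : Equiv.Perm X) x) := fun q => by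
  have h1 := congrArg (fun k : parkGroup S X => (k : Equiv.Perm X)
    (((1, Subgroup.inclusion hQS ((α * β⁻¹) q)) : ↥S × ↥S) • x)) (hg (β⁻¹ q))
  simp only [Subgroup.coe_mul, Equiv.Perm.mul_apply, parkEmb_apply, MulAut.apply_inv_self] at h1
  rw [g.2, ← smul_split, ← smul_split, MulAut.mul_apply, hα (β⁻¹ q)] at h1
  exact h1

end

/-- The automorphisms of the right `S`-set normalising `Q` as the system does. -/
def parkNormalizer (F : FusionSystem S) {Q : Subgroup Ω} (hQS : Q ≤ S) (X : Type u)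
    [MulAction (↥S × ↥S) X] : Subgroup (parkGroup S X) where
  carrier := {g | ∃ α ∈ F.autGroup Q, ∀ q : Q,
    parkEmb S X (Subgroup.inclusion hQS (α q)) * g = g * parkEmb S X (Subgroup.inclusion hQS q)}
  one_mem' := ⟨1, one_mem _, fun q => by simp⟩
  mul_mem' := by
    rintro a b ⟨α, hα, ha⟩ ⟨β, hβ, hb⟩
    refine ⟨α * β, mul_mem hα hβ, fun q => ?_⟩
    rw [MulAut.mul_apply, ← mul_assoc, ha, mul_assoc, hb, mul_assoc]
  inv_mem' := by
    rintro a ⟨α, hα, ha⟩
    refine ⟨α⁻¹, inv_mem hα, fun q => ?_⟩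
    have h := ha (α⁻¹ q)
    rw [MulAut.apply_inv_self] at h
    rw [mul_inv_eq_iff_eq_mul, mul_assoc, h, inv_mul_cancel_left]

/-- There is a homomorphism from the centraliser of `Q` in Park's group to `Z(Q)` which is
equivariant and is a power map prime to `p` on `Z(Q)`. -/
theorem exists_central_transfer [Fact p.Prime] [Finite S] [Finite X] (hS : IsPGroup p S)
    (hX : IsSemicharBiset F X) {n : ℕ} (hn : Nat.card X = Nat.card S * n) (hpn : ¬ p ∣ n)
    {Q : Subgroup Ω} (hQn : F.IsNormal Q) (hQc : F.IsCentric Q) :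
    ∃ (τ : Subgroup.centralizer ((Q.subgroupOf S).map (parkEmb S X) : Set (parkGroup S X)) →*
        Subgroup.center Q) (N : ℕ), ¬ p ∣ N ∧
      (∀ (z : Subgroup.center Q) (c : Subgroup.centralizer ((Q.subgroupOf S).map (parkEmb S X) : Set (parkGroup S X))),
        (c : parkGroup S X) =
        parkEmb S X (Subgroup.inclusion hQn.1 (z : Q)) → τ c = z ^ N) ∧
      ∀ (g : parkGroup S X) (α : MulAut Q), α ∈ F.autGroup Q → (∀ q : Q,
          parkEmb S X (Subgroup.inclusion hQn.1 (α q)) * g =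
            g * parkEmb S X (Subgroup.inclusion hQn.1 q)) →
        ∀ c c' : Subgroup.centralizer ((Q.subgroupOf S).map (parkEmb S X) : Set (parkGroup S X)),
          (c' : parkGroup S X) * g = g * c → τ c' = Subgroup.centerCongr α (τ c) := by
  classical
  have hQS := hQn.1
  have hQsc := IsNormal.stronglyClosed hQn
  have hQN := IsNormal.normal_in hQn
  have := finite_le hQS
  -- coset representatives
  set AS := (autInducedBy S Q).subgroupOf (F.autGroup Q)
  let rep : F.autGroup Q → F.autGroup Q := fun a => (Quotient.mk (QuotientGroup.rightRel AS) a).out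
  have hrep : ∀ a, rep (rep a) = rep a := fun a => congrArg Quotient.out (Quotient.out_eq _)
  have hrepAS : ∀ a, rep a * a⁻¹ ∈ AS := fun a => by
    have h := QuotientGroup.rightRel_apply.1
      (Quotient.exact (Quotient.out_eq (Quotient.mk (QuotientGroup.rightRel AS) a)).symm)
    exact h
  have hadj : ∀ a : F.autGroup Q, ∃ s : S, ∀ q : Q,
      ((((rep a * a⁻¹ : F.autGroup Q) : MulAut Q) q : Q) : Ω) = s * (q : Ω) * (s : Ω)⁻¹ := fun a => by
    obtain ⟨g, hg, hv⟩ := mem_autInducedBy_iff.1 (hrepAS a)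
    exact ⟨⟨g, hg⟩, hv⟩
  choose adj hadj using hadj
  have hshift : ∀ (a : F.autGroup Q) (x : X), HasMap hQS (a : MulAut Q) x →
      HasMap hQS (rep a : MulAut Q) (((1, adj a) : ↥S × ↥S) • x) := fun a x hx => by
    have h := hx.right hQS (adj a) _ (hadj a)
    rwa [← Subgroup.coe_mul, inv_mul_cancel_right] at h
  -- the set
  let Wset : Set X := {x | ∃ a : F.autGroup Q, HasMap hQS (a : MulAut Q) x ∧ rep a = a}
  set C := Subgroup.centralizer ((Q.subgroupOf S).map (parkEmb S X) : Set (parkGroup S X)) with hC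
  have hcomm : ∀ (c : C) (q : Q), parkEmb S X (Subgroup.inclusion hQS q) * c =
      c * parkEmb S X (Subgroup.inclusion hQS q) := fun c q =>
    Subgroup.mem_centralizer_iff.1 c.2 _ ⟨_, q.2, rfl⟩
  have hCW : ∀ (c : C) (x : X), x ∈ Wset → ((c : parkGroup S X) : Equiv.Perm X) x ∈ Wset := by
    rintro c x ⟨a, ha, hr⟩
    refine ⟨a, ?_, hr⟩
    have := ha.park hQS (c : parkGroup S X) 1 (fun q => hcomm c q)
    rwa [inv_one, mul_one] at this
  have hzW : ∀ (z : Subgroup.center Q) (x : X), x ∈ Wset →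
      ((Subgroup.inclusion hQS (z : Q), 1) : ↥S × ↥S) • x ∈ Wset := by
    rintro z x ⟨a, ha, hr⟩
    refine ⟨a, fun q => ?_, hr⟩
    rw [smul_smul, Prod.mk_mul_mk, mul_one, ← map_mul, Subgroup.mem_center_iff.1 z.2 q, map_mul,
      ← one_mul (Subgroup.inclusion hQS ((a : MulAut Q) q)), ← Prod.mk_mul_mk, mul_smul, ha q]
  let W := {x : X // x ∈ Wset}
  let actC : MulAction C W :=
    { smul := fun c x => ⟨((c : parkGroup S X) : Equiv.Perm X) x.1, hCW c x.1 x.2⟩
      one_smul := fun x => rfl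
      mul_smul := fun c d x => rfl }
  let actZ : MulAction (Subgroup.center Q) W :=
    { smul := fun z x => ⟨((Subgroup.inclusion hQS (z : Q), 1) : ↥S × ↥S) • x.1, hzW z x.1 x.2⟩
      one_smul := fun x => Subtype.ext (one_smul _ x.1)
      mul_smul := fun z w x => Subtype.ext (by
        show ((Subgroup.inclusion hQS ((z : Q) * (w : Q)), 1) : ↥S × ↥S) • x.1 = _ • _ • x.1
        rw [smul_smul, Prod.mk_mul_mk, one_mul, map_mul]) }
  have hc : ∀ (c : C) (z : Subgroup.center Q) (x : W), c • z • x = z • c • x := fun c z x =>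
    Subtype.ext (congrArg (fun k : parkGroup S X => (k : Equiv.Perm X) x.1) (hcomm c z).symm)
  have hfree : ∀ (z : Subgroup.center Q) (x : W), z • x = x → z = 1 := fun z x h =>
    Subtype.ext (Subgroup.inclusion_injective hQS (hX.left_free _ x.1 (congrArg Subtype.val h)))
  have : Fintype (orbitRel.Quotient (Subgroup.center Q) W) := Fintype.ofFinite _
  let τ := FreeTransfer.transferHom (G := C) (A := Subgroup.center Q) hfree Quotient.out (fun o => o.out_eq')
    (MonoidHom.id (Subgroup.center Q)) hc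
  refine ⟨τ, Fintype.card (orbitRel.Quotient (Subgroup.center Q) W), ?_, fun z c hz => ?_, ?_⟩
  · -- count the orbits
    let _ : MulAction S X := rightAct S X
    have hcQ : ∀ (g : Q) (b : S) (x : X),
        ((Subgroup.inclusion hQS g, 1) : ↥S × ↥S) • b • x =
          b • ((Subgroup.inclusion hQS g, 1) : ↥S × ↥S) • x := fun g b x => by
      show ((Subgroup.inclusion hQS g, 1) : ↥S × ↥S) • ((1, b) : ↥S × ↥S) • x =
        ((1, b) : ↥S × ↥S) • ((Subgroup.inclusion hQS g, 1) : ↥S × ↥S) • x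
      rw [smul_smul, smul_smul, Prod.mk_mul_mk, Prod.mk_mul_mk, one_mul, mul_one, one_mul, mul_one]
    let _ : MulAction Q X := MulAction.compHom X ((MonoidHom.inl S S).comp (Subgroup.inclusion hQS))
    have hθ : ∀ (g : Q) (b : S) (x : X), g • b • x = (1 : Q →* MulAut S) g b • g • x := hcQ
    let actO : MulAction Q (orbitRel.Quotient S X) :=
      { smul := FreeTransfer.orbMap hθ
        one_smul := FreeTransfer.orbMap_one hθ
        mul_smul := FreeTransfer.orbMap_mul hθ }
    have hWfix : ∀ x : W, (Quotient.mk'' x.1 : orbitRel.Quotient S X) ∈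
        fixedPoints Q (orbitRel.Quotient S X) := fun x q => by
      obtain ⟨a, ha, -⟩ := x.2
      refine Quotient.sound' ⟨(Subgroup.inclusion hQS ((a : MulAut Q) q))⁻¹, ?_⟩
      show ((1, (Subgroup.inclusion hQS ((a : MulAut Q) q))⁻¹) : ↥S × ↥S) • x.1 =
        ((Subgroup.inclusion hQS q, 1) : ↥S × ↥S) • x.1
      conv_lhs => rw [← ha q, smul_smul, Prod.mk_mul_mk, one_mul, inv_mul_cancel]
    let toFix : orbitRel.Quotient (Subgroup.center Q) W → fixedPoints Q (orbitRel.Quotient S X) :=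
      Quotient.lift (fun x : W => ⟨Quotient.mk'' x.1, hWfix x⟩) (by
        rintro x y ⟨z, rfl⟩
        obtain ⟨a, ha, -⟩ := y.2
        refine Subtype.ext (Quotient.sound' ⟨(Subgroup.inclusion hQS ((a : MulAut Q) (z : Q)))⁻¹, ?_⟩)
        show ((1, (Subgroup.inclusion hQS ((a : MulAut Q) (z : Q)))⁻¹) : ↥S × ↥S) • y.1 =
          ((Subgroup.inclusion hQS (z : Q), 1) : ↥S × ↥S) • y.1
        conv_lhs => rw [← ha z, smul_smul, Prod.mk_mul_mk, one_mul, inv_mul_cancel])
    have hfix : Nat.card (fixedPoints Q (orbitRel.Quotient S X)) =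
        Nat.card (orbitRel.Quotient (Subgroup.center Q) W) := by
      refine (Nat.card_congr (Equiv.ofBijective toFix ⟨?_, ?_⟩)).symm
      · intro o o'
        induction o using Quotient.inductionOn' with
        | h x =>
        induction o' using Quotient.inductionOn' with
        | h y =>
        intro h
        obtain ⟨s, hs⟩ := Quotient.exact' (congrArg Subtype.val h)
        have hs' : ((1, s) : ↥S × ↥S) • y.1 = x.1 := hs
        obtain ⟨a, ha, hra⟩ := x.2
        obtain ⟨b, hb, hrb⟩ := y.2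
        have hsN : (s : Ω) ∈ Subgroup.normalizer (Q : Set Ω) := hQN s.2
        let γ : F.autGroup Q := ⟨conjAut (⟨s, s.2, hsN⟩ : normalizerIn S Q),
          autInducedBy_le_autGroup hQS (conjAut_mem _)⟩
        have hmap := hb.right hQS s (γ : MulAut Q) (fun q => conjAut_apply _ q)
        rw [hs'] at hmap
        have hab : (a : MulAut Q) = γ * b := ha.unique hQS hX hmap
        have hab' : a = b := by
          rw [← hra, ← hrb]
          refine congrArg Quotient.out (Quotient.sound (QuotientGroup.rightRel_apply.2 ?_))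
          show ((b * a⁻¹ : F.autGroup Q) : MulAut Q) ∈ autInducedBy S Q
          rw [Subgroup.coe_mul, Subgroup.coe_inv, hab, mul_inv_rev, mul_inv_cancel_left]
          exact (autInducedBy S Q).inv_mem (conjAut_mem _)
        subst hab'
        have hγ : (γ : MulAut Q) = 1 := by
          have := hab.symm; rwa [mul_eq_right] at this
        have hsQ : (s : Ω) ∈ Q := hQc.2 Q (isConj_refl hQS) (mem_centralizerIn.2 ⟨s.2, fun q hq => by
          have h1 : (s : Ω) * q * (s : Ω)⁻¹ = q :=
            (conjAut_apply (⟨s, s.2, hsN⟩ : normalizerIn S Q) ⟨q, hq⟩).symm.trans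
              (congrArg (fun e : MulAut Q => ((e ⟨q, hq⟩ : Q) : Ω)) hγ)
          exact (mul_inv_eq_iff_eq_mul.1 h1).symm⟩)
        have hsz : (⟨(s : Ω), hsQ⟩ : Q) ∈ Subgroup.center Q := Subgroup.mem_center_iff.2 fun q => by
          have h1 := congrArg (fun e : MulAut Q => ((e q : Q) : Ω)) hγ
          exact Subtype.ext (mul_inv_eq_iff_eq_mul.1 h1).symm
        refine Quotient.sound' ⟨(⟨(a : MulAut Q)⁻¹ ⟨(s : Ω), hsQ⟩,
          (Subgroup.centerCongr (a : MulAut Q)⁻¹ ⟨_, hsz⟩).2⟩ : Subgroup.center Q)⁻¹, Subtype.ext ?_⟩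
        show ((Subgroup.inclusion hQS ((a : MulAut Q)⁻¹ ⟨(s : Ω), hsQ⟩)⁻¹, 1) : ↥S × ↥S) • y.1 = x.1
        rw [← hs']
        conv_lhs => rw [← hb ((a : MulAut Q)⁻¹ ⟨(s : Ω), hsQ⟩), smul_smul, Prod.mk_mul_mk,
          map_inv, inv_mul_cancel, one_mul, MulAut.apply_inv_self]
        rfl
      · rintro ⟨o, ho⟩
        induction o using Quotient.inductionOn' with
        | h x =>
          have hx : ∀ q : Q, ∃ b : S, ((Subgroup.inclusion hQS q, b) : ↥S × ↥S) • x = x := fun q => by
            obtain ⟨b, hb⟩ := Quotient.exact' (ho q)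
            refine ⟨b⁻¹, ?_⟩
            have hb' : ((1, b) : ↥S × ↥S) • x = ((Subgroup.inclusion hQS q, 1) : ↥S × ↥S) • x := hb
            rw [show ((Subgroup.inclusion hQS q, b⁻¹) : ↥S × ↥S) =
              ((1, b⁻¹) : ↥S × ↥S) * (Subgroup.inclusion hQS q, 1) by
              rw [Prod.mk_mul_mk, one_mul, mul_one], mul_smul, ← hb', smul_smul, Prod.mk_mul_mk,
              one_mul, inv_mul_cancel]
            exact one_smul _ x
          obtain ⟨α, hαA, hα⟩ := exists_hasMap hQS hX hQsc hx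
          refine ⟨Quotient.mk'' ⟨_, rep ⟨α, hαA⟩, hshift ⟨α, hαA⟩ x hα, hrep _⟩, Subtype.ext ?_⟩
          exact Quotient.sound' ⟨adj ⟨α, hαA⟩, rfl⟩
    have hmod := (hS.to_le hQS).card_modEq_card_fixedPoints (α := orbitRel.Quotient S X)
    have hO : Nat.card (orbitRel.Quotient S X) = n :=
      Nat.eq_of_mul_eq_mul_left Nat.card_pos
        ((card_eq_card_mul_orbits (fun b x h => hX.right_free b x h)).symm.trans hn)
    rw [hfix, hO] at hmod
    intro hdvd
    rw [← Nat.card_eq_fintype_card] at hdvd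
    exact hpn ((hmod.dvd_iff dvd_rfl).2 hdvd)
  · rw [show τ c = FreeTransfer.transferHom hfree Quotient.out (fun o => o.out_eq')
      (MonoidHom.id (Subgroup.center Q)) hc c from rfl, FreeTransfer.transferHom_apply,
      FreeTransfer.transfer_of_uniform _ hfree _ _ _ (b := z) fun x => Subtype.ext (by
        show ((c : parkGroup S X) : Equiv.Perm X) x.1 = _
        rw [hz]; rfl)]
    rfl
  · intro g α hαA hg c c' hcc
    -- translate into `W`
    let f : C → C := fun d => ⟨g * d * g⁻¹, Subgroup.mem_centralizer_iff.2 fun k hk => by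
      obtain ⟨q', hq, rfl⟩ := hk
      obtain ⟨q, rfl⟩ : ∃ q : Q, Subgroup.inclusion hQS q = q' := ⟨⟨q', hq⟩, rfl⟩
      have h1 := hg (α⁻¹ q)
      rw [MulAut.apply_inv_self] at h1
      calc parkEmb S X (Subgroup.inclusion hQS q) * (g * d * g⁻¹)
          = g * (parkEmb S X (Subgroup.inclusion hQS (α⁻¹ q)) * d) * g⁻¹ := by
            rw [← mul_assoc, ← mul_assoc, h1, mul_assoc g]
        _ = g * d * g⁻¹ * parkEmb S X (Subgroup.inclusion hQS q) := by
            rw [hcomm, eq_mul_inv_of_mul_eq h1]; group⟩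
    have hf : f c = c' := Subtype.ext (mul_inv_eq_iff_eq_mul.2 hcc.symm)
    have hex : ∀ x : W, ∃ a : F.autGroup Q, HasMap hQS (a : MulAut Q) x.1 := fun x =>
      ⟨_, x.2.choose_spec.1⟩
    choose amap hamap using hex
    let αF : F.autGroup Q := ⟨α, hαA⟩
    have heW : ∀ x : W, ((1, adj (amap x * αF⁻¹)) : ↥S × ↥S) • (g : Equiv.Perm X) x.1 ∈ Wset :=
      fun x => ⟨rep (amap x * αF⁻¹), hshift _ _ ((hamap x).park hQS g α hg), hrep _⟩
    let e₀ : W → W := fun x => ⟨_, heW x⟩
    have heinj : Function.Injective e₀ := by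
      intro x y h
      have h1 : ((1, adj (amap x * αF⁻¹)) : ↥S × ↥S) • (g : Equiv.Perm X) x.1 =
        ((1, adj (amap y * αF⁻¹)) : ↥S × ↥S) • (g : Equiv.Perm X) y.1 := congrArg Subtype.val h
      rw [← g.2, ← g.2] at h1
      have h2 := (g : Equiv.Perm X).injective h1
      -- both have representative maps, so their maps agree
      obtain ⟨a, ha, hra⟩ := x.2
      obtain ⟨b, hb, hrb⟩ := y.2
      have ea : amap x = a := Subtype.ext ((hamap x).unique hQS hX ha)
      have eb : amap y = b := Subtype.ext ((hamap y).unique hQS hX hb)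
      set s := adj (amap x * αF⁻¹)
      set t := adj (amap y * αF⁻¹)
      have h3 : ((1, t⁻¹ * s) : ↥S × ↥S) • x.1 = y.1 := by
        rw [show ((1, t⁻¹ * s) : ↥S × ↥S) = (1, t)⁻¹ * (1, s) by simp, mul_smul, h2, inv_smul_smul]
      have hsN := hQN (t⁻¹ * s).2
      have hmap := ha.right hQS (t⁻¹ * s) (conjAut (⟨_, (t⁻¹ * s).2, hsN⟩ : normalizerIn S Q))
        (fun q => conjAut_apply _ q)
      rw [h3] at hmap
      have hab : b = a := by
        rw [← hra, ← hrb]
        refine congrArg Quotient.out (Quotient.sound (QuotientGroup.rightRel_apply.2 ?_))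
        show ((a * b⁻¹ : F.autGroup Q) : MulAut Q) ∈ autInducedBy S Q
        rw [Subgroup.coe_mul, Subgroup.coe_inv, hb.unique hQS hX hmap, mul_inv_rev,
          mul_inv_cancel_left]
        exact (autInducedBy S Q).inv_mem (conjAut_mem _)
      have hst : s = t := by simp only [s, t, ea, eb, hab]
      exact Subtype.ext (by rw [← h3, hst, inv_mul_cancel]; exact (one_smul _ _).symm)
    let e : W ≃ W := Equiv.ofBijective e₀ ⟨heinj, Finite.surjective_of_injective heinj⟩
    have hamap_eq : ∀ (x y : W), (∃ a : MulAut Q, HasMap hQS a x.1 ∧ HasMap hQS a y.1) →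
        amap x = amap y := fun x y ⟨a, hx, hy⟩ =>
      Subtype.ext (((hamap x).unique hQS hX hx).trans ((hamap y).unique hQS hX hy).symm)
    have key := FreeTransfer.transferHom_natural (G := C) (G' := C) hfree Quotient.out
      (fun o => o.out_eq') (MonoidHom.id (Subgroup.center Q)) hc hc hfree Quotient.out
      (fun o => o.out_eq') (MonoidHom.id (Subgroup.center Q)) f (Subgroup.centerCongr α)
      (Subgroup.centerCongr α).toMonoidHom e (fun z x => ?_) (fun d x => ?_) (fun _ => rfl) c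
    · rw [hf] at key
      exact key
    · refine Subtype.ext ?_
      have ea : amap (z • x) = amap x := hamap_eq _ _ ⟨amap x, fun q => by
        show _ • ((Subgroup.inclusion hQS (z : Q), 1) : ↥S × ↥S) • x.1 = _
        rw [smul_smul, Prod.mk_mul_mk, mul_one, ← map_mul, Subgroup.mem_center_iff.1 z.2 q, map_mul,
          ← one_mul (Subgroup.inclusion hQS ((amap x : MulAut Q) q)), ← Prod.mk_mul_mk, mul_smul,
          hamap x q]
        rfl, hamap x⟩
      show ((1, adj (amap (z • x) * αF⁻¹)) : ↥S × ↥S) •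
          (g : Equiv.Perm X) (((Subgroup.inclusion hQS (z : Q), 1) : ↥S × ↥S) • x.1) =
        ((Subgroup.inclusion hQS (α z), 1) : ↥S × ↥S) •
          ((1, adj (amap x * αF⁻¹)) : ↥S × ↥S) • (g : Equiv.Perm X) x.1
      have h1 : ((Subgroup.inclusion hQS (α z), 1) : ↥S × ↥S) • (g : Equiv.Perm X) x.1 =
          (g : Equiv.Perm X) (((Subgroup.inclusion hQS (z : Q), 1) : ↥S × ↥S) • x.1) :=
        congrArg (fun k : parkGroup S X => (k : Equiv.Perm X) x.1) (hg z)
      rw [ea, ← h1, smul_smul, smul_smul,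
        Prod.mk_mul_mk, Prod.mk_mul_mk, one_mul, mul_one, one_mul, mul_one]
    · refine Subtype.ext ?_
      have ea : amap (d • x) = amap x := hamap_eq _ _ ⟨amap x, by
        have h := (hamap x).park hQS (d : parkGroup S X) 1 (fun q => hcomm d q)
        rwa [inv_one, mul_one] at h, hamap x⟩
      show ((1, adj (amap (d • x) * αF⁻¹)) : ↥S × ↥S) •
          (g : Equiv.Perm X) (((d : parkGroup S X) : Equiv.Perm X) x.1) =
        ((f d : parkGroup S X) : Equiv.Perm X)
          (((1, adj (amap x * αF⁻¹)) : ↥S × ↥S) • (g : Equiv.Perm X) x.1)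
      rw [ea, (f d : parkGroup S X).2]
      congr 1
      exact (congrArg (fun k : parkGroup S X => (k : Equiv.Perm X) x.1)
        (show (g * d * g⁻¹) * g = g * (d : parkGroup S X) from inv_mul_cancel_right _ _)).symm

end CfsgLib.Fusion
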