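import Cfsg.Agent.Lib.Fusion.Biset.Twisted

/-!
# Semicharacteristic and characteristic bisets
-/

set_option autoImplicit false

namespace CfsgLib.Fusion

open Cfsg Cfsg.FusionSystem MulAction Marks

universe u

variable {Ω : Type u} [Group Ω] {S : Subgroup Ω} {p : ℕ}

/-- A finite `S × S`-set with stabilisers twisted diagonals of the system, with marks depending
only on the class of the domain, and containing a point fixed by the diagonal. -/
structure IsSemicharBiset (F : FusionSystem S) (X : Type u) [MulAction (↥S × ↥S) X] : Prop where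
  twisted : ∀ x : X, IsTwisted F (stabilizer (↥S × ↥S) x)
  stable : ∀ L M : Subgroup (↥S × ↥S), IsTwisted F L → IsTwisted F M →
    F.IsConj (dom L) (dom M) → mark L X = mark M X
  diag : 0 < mark (twist (incl_mem (F := F) (le_refl S))) X

variable (F : FusionSystem S)

/-- The twisted diagonal of an automorphism of `S` in the system. -/
def autTwist (α : F.autGroup S) : Subgroup (↥S × ↥S) :=
  twist ((mem_autGroup_iff le_rfl).1 α.2)

variable {F}

theorem autTwist_isTwist (α : F.autGroup S) (k : ↥S × ↥S) :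
    k ∈ autTwist F α ↔ (α : MulAut S) k.2 = k.1 :=
  ⟨fun ⟨_, h⟩ => Subtype.ext h, fun h => ⟨k.2.2, congrArg Subtype.val h⟩⟩

theorem autTwist_dom (α : F.autGroup S) : dom (autTwist F α) = S :=
  (isTwist_twist _).dom_eq ((mem_autGroup_iff le_rfl).1 α.2)

theorem autTwist_card (α : F.autGroup S) : Nat.card (autTwist F α) = Nat.card S := by
  rw [(show IsTwisted F (autTwist F α) from twist_isTwisted _).card_eq, autTwist_dom]

theorem exists_autTwist_eq [Finite S] {L : Subgroup (↥S × ↥S)} (hL : IsTwisted F L)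
    (h : dom L = S) : ∃ α : F.autGroup S, L = autTwist F α := by
  obtain ⟨P, φ, hφ, hT⟩ := hL
  obtain rfl : P = S := (hT.dom_eq hφ).symm.trans h
  have hr : φ.range = P := Subgroup.eq_of_le_of_card_ge (hom_range_le hφ)
    (le_of_eq (Nat.card_congr (MonoidHom.ofInjective (F.injective_of_mem hφ)).toEquiv))
  obtain ⟨e, he, hev⟩ := exists_iso hφ hr
  refine ⟨⟨e, (mem_autGroup_iff_isoIn le_rfl).2 he⟩, Subgroup.ext fun k => ?_⟩
  rw [hT k, autTwist_isTwist]
  constructor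
  · rintro ⟨h1, h2⟩; exact Subtype.ext ((hev _).trans h2)
  · intro h2; exact ⟨k.2.2, (hev _).symm.trans (congrArg Subtype.val h2)⟩

theorem autTwist_map_conj (α : F.autGroup S) (k : ↥S × ↥S) (β : F.autGroup S) :
    (autTwist F α).map (MulAut.conj k).toMonoidHom = autTwist F β ↔
      (β : MulAut S) = MulAut.conj k.1 * α * (MulAut.conj k.2)⁻¹ := by
  constructor
  · intro h
    refine MulEquiv.ext fun x => ?_
    have hm : MulAut.conj k ((α : MulAut S) (k.2⁻¹ * x * k.2), k.2⁻¹ * x * k.2) ∈ autTwist F β :=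
      h.le ⟨_, (autTwist_isTwist α _).2 rfl, rfl⟩
    rw [autTwist_isTwist] at hm
    have e2 : (MulAut.conj k ((α : MulAut S) (k.2⁻¹ * x * k.2), k.2⁻¹ * x * k.2)).2 = x := by
      show k.2 * (k.2⁻¹ * x * k.2) * k.2⁻¹ = x
      group
    rw [e2] at hm
    rw [hm]
    simp [MulAut.mul_apply]
  · intro h
    ext m
    rw [autTwist_isTwist, h]
    constructor
    · rintro ⟨a, ha, rfl⟩
      rw [SetLike.mem_coe, autTwist_isTwist] at ha
      show k.1 * (α : MulAut S) ((MulAut.conj k.2)⁻¹ (k.2 * a.2 * k.2⁻¹)) * k.1⁻¹ = k.1 * a.1 * k.1⁻¹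
      rw [show (MulAut.conj k.2)⁻¹ (k.2 * a.2 * k.2⁻¹) = a.2 from (MulAut.conj k.2).symm_apply_apply _, ha]
    · intro hm
      simp only [MulAut.mul_apply, MulAut.conj_inv_apply, MulAut.conj_apply] at hm
      refine ⟨(MulAut.conj k).symm m, (autTwist_isTwist α _).2 ?_, (MulAut.conj k).apply_symm_apply m⟩
      show (α : MulAut S) (k.2⁻¹ * m.2 * k.2) = k.1⁻¹ * m.1 * k.1
      rw [← hm]
      group

theorem autTwist_weight [Finite S] (α β : F.autGroup S) :
    weight (autTwist F α) = weight (autTwist F β) := by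
  suffices h : ∀ α : F.autGroup S, weight (autTwist F α) = weight (autTwist F 1) by rw [h α, h β]
  intro α
  set e : ↥S × ↥S ≃* ↥S × ↥S := MulEquiv.prodCongr (α : MulAut S) (MulEquiv.refl ↥S) with he
  have hmap : (autTwist F 1).map e.toMonoidHom = autTwist F α := by
    ext m
    rw [autTwist_isTwist]
    constructor
    · rintro ⟨a, ha, rfl⟩
      rw [SetLike.mem_coe, autTwist_isTwist] at ha
      show (α : MulAut S) a.2 = (α : MulAut S) a.1
      rw [← ha]
      rfl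
    · intro h
      exact ⟨(m.2, m.2), (autTwist_isTwist 1 _).2 rfl, Prod.ext h rfl⟩
  have h1 := weight_mul_card (autTwist F 1)
  have h2 := weight_mul_card (autTwist F α)
  rw [← hmap, ← Subgroup.map_equiv_normalizer_eq, Subgroup.card_map_of_injective e.injective,
    Subgroup.card_map_of_injective e.injective, ← h1] at h2
  rw [hmap] at h2
  exact Nat.eq_of_mul_eq_mul_right Nat.card_pos h2

/-- The disjoint union of the transitive bisets of some automorphisms of `S`. -/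
def initialBiset {ι : Type u} (α : ι → F.autGroup S) : Type u :=
  Σ i, (↥S × ↥S) ⧸ autTwist F (α i)

instance {ι : Type u} (α : ι → F.autGroup S) : MulAction (↥S × ↥S) (initialBiset α) :=
  inferInstanceAs (MulAction (↥S × ↥S) (Σ i, (↥S × ↥S) ⧸ autTwist F (α i)))

instance {ι : Type u} [Finite ι] [Finite S] (α : ι → F.autGroup S) : Finite (initialBiset α) :=
  inferInstanceAs (Finite (Σ i, (↥S × ↥S) ⧸ autTwist F (α i)))

theorem initialBiset_stabilizer {ι : Type u} (α : ι → F.autGroup S) (x : initialBiset α) :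
    IsTwisted F (stabilizer (↥S × ↥S) x) ∧ dom (stabilizer (↥S × ↥S) x) ≤ S := by
  refine ⟨?_, dom_le _⟩
  obtain ⟨i, z⟩ := x
  show IsTwisted F (stabilizer (↥S × ↥S) (⟨i, z⟩ : Σ i, (↥S × ↥S) ⧸ autTwist F (α i)))
  rw [stabilizer_sigma]
  induction z using QuotientGroup.induction_on with
  | H k =>
    rw [stabilizer_coset]
    exact ((related_conj k _).isTwisted (twist_isTwisted _)).1

theorem initialBiset_mark [Finite S] {ι : Type u} [Finite ι] (α : ι → F.autGroup S) {m : ℕ}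
    (hm : ∀ β : F.autGroup S, Nat.card {i // ((β * (α i)⁻¹ : F.autGroup S) : MulAut S) ∈ Inn S} = m)
    (β : F.autGroup S) :
    mark (autTwist F β) (initialBiset α) = m * weight (autTwist F 1) := by
  classical
  have : Fintype ι := Fintype.ofFinite ι
  show mark (autTwist F β) (Σ i, (↥S × ↥S) ⧸ autTwist F (α i)) = _
  rw [mark_sigma]
  have key : ∀ i, mark (autTwist F β) ((↥S × ↥S) ⧸ autTwist F (α i)) =
      if ((β * (α i)⁻¹ : F.autGroup S) : MulAut S) ∈ Inn S then weight (autTwist F 1) else 0 := by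
    intro i
    split_ifs with h
    · obtain ⟨c, hc⟩ := h
      have hk : (autTwist F (α i)).map (MulAut.conj ((c, 1) : ↥S × ↥S)).toMonoidHom =
          autTwist F β := by
        rw [autTwist_map_conj]
        show (β : MulAut S) = MulAut.conj c * (α i : MulAut S) * (MulAut.conj 1)⁻¹
        rw [hc, map_one, inv_one, mul_one, Subgroup.coe_mul, Subgroup.coe_inv, inv_mul_cancel_right]
      rw [← hk, mark_conj]
      exact autTwist_weight _ _
    · refine mark_coset_eq_zero fun k hle => h ?_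
      have he := Subgroup.eq_of_le_of_card_ge hle (by
        rw [Subgroup.card_map_of_injective (MulAut.conj k).injective, autTwist_card, autTwist_card])
      have he' := (autTwist_map_conj (α i) k β).1 he.symm
      rw [Subgroup.coe_mul, Subgroup.coe_inv, he',
        show MulAut.conj k.1 * (α i : MulAut S) * (MulAut.conj k.2)⁻¹ * (α i : MulAut S)⁻¹ =
          MulAut.conj k.1 * ((α i : MulAut S) * (MulAut.conj k.2)⁻¹ * (α i : MulAut S)⁻¹) by group]
      exact (Inn S).mul_mem ⟨k.1, rfl⟩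
        (Subgroup.Normal.conj_mem inferInstance _ ((Inn S).inv_mem ⟨k.2, rfl⟩) _)
  simp only [key]
  rw [← Finset.sum_filter, Finset.sum_const, smul_eq_mul, ← hm β, Nat.card_eq_fintype_card,
    Fintype.card_subtype]

theorem initial_stable [Finite S] {ι : Type u} [Finite ι] (α : ι → F.autGroup S) {m : ℕ}
    (hm : ∀ β : F.autGroup S, Nat.card {i // ((β * (α i)⁻¹ : F.autGroup S) : MulAut S) ∈ Inn S} = m) :
    ∀ L M, twistSetoid F L M → ¬ ProperTwisted F L →
      mark L (initialBiset α) = mark M (initialBiset α) := by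
  rintro L M (⟨hL, hM, hc⟩ | ⟨hL, hM⟩) hH
  · have hLS : dom L = S := not_not.1 fun h => hH ⟨hL, h⟩
    have hMS : dom M = S := Subgroup.eq_of_le_of_card_ge (dom_le M) (by rw [← isConj_card hc, hLS])
    obtain ⟨β, rfl⟩ := exists_autTwist_eq hL hLS
    obtain ⟨γ, rfl⟩ := exists_autTwist_eq hM hMS
    rw [initialBiset_mark α hm, initialBiset_mark α hm]
  · rw [mark_eq_zero fun x h => hL ((initialBiset_stabilizer α x).1.mono h),
      mark_eq_zero fun x h => hM ((initialBiset_stabilizer α x).1.mono h)]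

theorem isSemicharBiset_of_ext [Finite S] {ι : Type u} [Finite ι] (α : ι → F.autGroup S) {m : ℕ}
    (hm : ∀ β : F.autGroup S, Nat.card {i // ((β * (α i)⁻¹ : F.autGroup S) : MulAut S) ∈ Inn S} = m)
    (hm0 : 0 < m) (X : Type u) [MulAction (↥S × ↥S) X] [Finite X]
    (hstable : ∀ L M, twistSetoid F L M → mark L X = mark M X)
    (hext : Ext (ProperTwisted F) (initialBiset α) X) : IsSemicharBiset F X := by
  refine ⟨fun x => ?_, fun L M hL hM hc => hstable L M (Or.inl ⟨hL, hM, hc⟩), ?_⟩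
  · rcases hext.stab x with h | ⟨y, hy⟩
    · exact h.1
    · exact hy ▸ (initialBiset_stabilizer α y).1
  · refine lt_of_lt_of_le ?_ (hext.mark_le _)
    have h1 : twist (incl_mem (F := F) (le_refl S)) = autTwist F (1 : F.autGroup S) :=
      (isTwist_twist _).eq fun k => by
        rw [autTwist_isTwist]
        exact ⟨fun h => ⟨k.2.2, congrArg Subtype.val h⟩, fun ⟨_, h⟩ => Subtype.ext h⟩
    rw [h1, initialBiset_mark α hm]
    exact Nat.mul_pos hm0 (mark_pos (stabilizer_quotient (autTwist F 1)).ge)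

/-- Every fusion system on a finite `p`-group has a semicharacteristic biset. -/
theorem exists_semicharBiset [Finite S] :
    ∃ (X : Type u) (_ : MulAction (↥S × ↥S) X) (_ : Finite X), IsSemicharBiset F X := by
  have := finite_mulAut_of_le (S := S) le_rfl
  let α : F.autGroup S → F.autGroup S := id
  have hm : ∀ β : F.autGroup S, Nat.card {i // ((β * (α i)⁻¹ : F.autGroup S) : MulAut S) ∈ Inn S} =
      Nat.card ((Inn S).subgroupOf (F.autGroup S)) := fun β => by
    refine Nat.card_congr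
      { toFun := fun i => ⟨β * (i.1 : F.autGroup S)⁻¹, i.2⟩
        invFun := fun j => ⟨(j.1)⁻¹ * β, by
          show ((β * ((j.1)⁻¹ * β)⁻¹ : F.autGroup S) : MulAut S) ∈ Inn S
          rw [mul_inv_rev, inv_inv, ← mul_assoc, mul_inv_cancel, one_mul]
          exact j.2⟩
        left_inv := fun i => Subtype.ext (by simp)
        right_inv := fun j => Subtype.ext (by simp) }
  obtain ⟨X, i, j, h1, h2⟩ := exists_stable_multiple (twist_domain (F := F)) (initialBiset α)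
    (initial_stable α hm)
  exact ⟨X, i, j, isSemicharBiset_of_ext α hm Nat.card_pos X h1 h2⟩

/-- The maps of the normalisers needed for the stabilisation. -/
theorem twist_normalizer_maps [Fact p.Prime] [Finite S] (hS : IsPGroup p S) (hF : F.IsSaturated p) :
    ∀ P, ProperTwisted F P → ∃ P₀, twistSetoid F P P₀ ∧ ∀ Q, twistSetoid F P Q →
      ∃ ψ : Subgroup.normalizer (Q : Set (↥S × ↥S)) →* ↥S × ↥S,
        (Q.subgroupOf (Subgroup.normalizer (Q : Set (↥S × ↥S)))).map ψ = P₀ ∧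
        ∀ L : Subgroup (Subgroup.normalizer (Q : Set (↥S × ↥S))),
          Q.subgroupOf (Subgroup.normalizer (Q : Set (↥S × ↥S))) < L →
          twistSetoid F (L.map (Subgroup.normalizer (Q : Set (↥S × ↥S))).subtype) (L.map ψ) := by
  rintro L₀ ⟨hL₀, -⟩
  obtain ⟨Q₀, hQ₀, h₁, h₂, -⟩ := IsSaturated.exists_rep hS hF (dom_le L₀)
  have hQS := isConj_le_right hQ₀
  refine ⟨twist (incl_mem (F := F) hQS), Or.inl ⟨hL₀, twist_isTwisted (incl_mem (F := F) hQS), ?_⟩, ?_⟩
  · rw [(isTwist_twist (incl_mem (F := F) hQS)).dom_eq (incl_mem (F := F) hQS)]; exact hQ₀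
  rintro Q (⟨-, hQ, hc⟩ | ⟨hn, -⟩)
  swap
  · exact absurd hL₀ hn
  obtain ⟨P, φ, hφ, hT⟩ := hQ
  rw [hT.dom_eq hφ] at hc
  have hPQ₀ : F.IsConj P Q₀ := isConj_trans (isConj_symm hc) hQ₀
  obtain ⟨v, hv, -, hvimg⟩ := exists_normalizer_map hS h₁ h₂ hPQ₀
  have hPS := hom_le hφ
  have hPN := le_normalizerIn hPS
  obtain ⟨w, hw, -, hwl, hwr⟩ := exists_inv hφ rfl
  have hwN : ∀ y, w y ∈ normalizerIn S P := fun y => hPN (hwr y).1
  have hγ := F.comp_mem hw hv hwN
  set γ := v.comp (w.codRestrict (normalizerIn S P) hwN) with hγdef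
  have hγv : ∀ (x : P) (h : φ x ∈ φ.range) (h' : (x : Ω) ∈ normalizerIn S P),
      γ ⟨φ x, h⟩ = v ⟨x, h'⟩ := fun x h h' => congrArg v (Subtype.ext (hwl x h))
  have hγr : γ.range = Q₀ := by
    rw [← hvimg]
    ext y
    constructor
    · rintro ⟨z, rfl⟩
      exact ⟨⟨w z, hwN z⟩, (hwr z).1, rfl⟩
    · rintro ⟨x, hx, rfl⟩
      exact ⟨⟨φ ⟨x, hx⟩, ⟨_, rfl⟩⟩, hγv _ _ _⟩
  obtain ⟨u, hu, huγ⟩ := h₂.2 _ γ hγ hγr
  set N := Subgroup.normalizer (Q : Set (↥S × ↥S))
  have hNP : ∀ k ∈ N, ∀ b : P, ∃ h : (k.2 : Ω) * b * (k.2 : Ω)⁻¹ ∈ P,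
      φ ⟨_, h⟩ = (k.1 : Ω) * φ b * (k.1 : Ω)⁻¹ := fun k hk b =>
    (hT _).1 ((Subgroup.mem_normalizer_iff.1 hk _).1 (hT.mem hφ b))
  have hb : ∀ k ∈ N, (k.2 : Ω) ∈ normalizerIn S P := by
    intro k hk
    refine ⟨k.2.2, Subgroup.mem_normalizer_iff.2 fun x => ⟨fun hx => (hNP k hk ⟨x, hx⟩).1, fun hx => ?_⟩⟩
    obtain ⟨h, -⟩ := hNP k⁻¹ (N.inv_mem hk) ⟨_, hx⟩
    simpa [mul_assoc] using h
  have ha : ∀ k ∈ N, (k.1 : Ω) ∈ extender S φ.range γ := by
    intro k hk
    refine mem_extender_iff.2 ⟨k.1.2, Subgroup.mem_normalizer_iff.2 fun x => ⟨?_, ?_⟩,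
      v ⟨k.2, hb k hk⟩, hom_apply_mem hv _, ?_⟩
    · rintro ⟨b, rfl⟩
      obtain ⟨h, e⟩ := hNP k hk b
      exact ⟨_, e⟩
    · rintro ⟨b, hb'⟩
      obtain ⟨h, e⟩ := hNP k⁻¹ (N.inv_mem hk) b
      refine ⟨_, e.trans ?_⟩
      rw [hb']
      show (k.1 : Ω)⁻¹ * ((k.1 : Ω) * x * (k.1 : Ω)⁻¹) * (k.1 : Ω)⁻¹⁻¹ = x
      group
    · rintro ⟨_, b, rfl⟩ hx
      obtain ⟨h, e⟩ := hNP k hk b
      rw [show (⟨(k.1 : Ω) * φ b * (k.1 : Ω)⁻¹, hx⟩ : φ.range) = ⟨φ ⟨_, h⟩, ⟨_, rfl⟩⟩ from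
        Subtype.ext e.symm, show γ ⟨φ b, _⟩ = _ from hγv b ⟨b, rfl⟩ (hPN b.2)]
      refine (hγv ⟨_, h⟩ ⟨_, rfl⟩ (hPN h)).trans ?_
      rw [show (⟨(k.2 : Ω) * b * (k.2 : Ω)⁻¹, hPN h⟩ : normalizerIn S P) =
        ⟨k.2, hb k hk⟩ * ⟨b, hPN b.2⟩ * ⟨k.2, hb k hk⟩⁻¹ from Subtype.ext rfl,
        map_mul, map_mul, map_inv]
  let ψ : N →* ↥S × ↥S :=
    { toFun := fun k => (⟨u ⟨((k : ↥S × ↥S).1 : Ω), ha k k.2⟩, hom_apply_mem hu _⟩,
        ⟨v ⟨((k : ↥S × ↥S).2 : Ω), hb k k.2⟩, hom_apply_mem hv _⟩)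
      map_one' := Prod.ext (Subtype.ext (map_one u)) (Subtype.ext (map_one v))
      map_mul' := fun a b => Prod.ext
        (Subtype.ext (map_mul u ⟨((a : ↥S × ↥S).1 : Ω), ha a a.2⟩ ⟨((b : ↥S × ↥S).1 : Ω), ha b b.2⟩))
        (Subtype.ext (map_mul v ⟨((a : ↥S × ↥S).2 : Ω), hb a a.2⟩ ⟨((b : ↥S × ↥S).2 : Ω), hb b b.2⟩)) }
  refine ⟨ψ, ?_, fun L _ => Related.rel ⟨normalizerIn S P, extender S φ.range γ, v, hv, u, hu,
    ?_, ?_, ?_⟩⟩
  · ext m
    constructor
    · rintro ⟨k, hk, rfl⟩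
      obtain ⟨hk2, hk1⟩ := (hT _).1 hk
      refine ⟨hvimg.le ⟨_, hk2, rfl⟩, ?_⟩
      show v ⟨_, hb k k.2⟩ = u ⟨_, ha k k.2⟩
      refine ((huγ _ (⟨⟨_, hk2⟩, hk1⟩ : ((k : ↥S × ↥S).1 : Ω) ∈ φ.range) (ha k k.2)).trans ?_).symm
      exact (congrArg γ (Subtype.ext hk1.symm)).trans (hγv ⟨_, hk2⟩ ⟨_, rfl⟩ (hPN hk2))
    · rintro ⟨hm2, hm⟩
      obtain ⟨x, hx, hxe⟩ := mem_img.1 (hvimg.ge hm2)
      have hmem := hT.mem hφ ⟨x, hx⟩
      refine ⟨⟨_, Subgroup.le_normalizer hmem⟩, hmem, ?_⟩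
      refine Prod.ext (Subtype.ext ?_) (Subtype.ext hxe)
      show u ⟨φ ⟨x, hx⟩, _⟩ = (m.1 : Ω)
      exact (huγ _ (⟨_, rfl⟩ : φ ⟨x, hx⟩ ∈ φ.range) _).trans
        ((hγv ⟨x, hx⟩ _ x.2).trans (hxe.trans hm))
  · rintro _ ⟨k, -, rfl⟩
    exact hb k k.2
  · rintro _ ⟨k, -, rfl⟩
    exact ha k k.2
  · intro m
    constructor
    · rintro ⟨k, hk, rfl⟩
      exact ⟨k, ⟨k, hk, rfl⟩, rfl, rfl⟩
    · rintro ⟨_, ⟨k, hk, rfl⟩, h1, h2⟩
      exact ⟨k, hk, Prod.ext (Subtype.ext h1) (Subtype.ext h2)⟩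

/-- Every saturated fusion system has a characteristic biset. -/
theorem exists_charBiset [Fact p.Prime] [Finite S] (hS : IsPGroup p S) (hF : F.IsSaturated p) :
    ∃ (X : Type u) (_ : MulAction (↥S × ↥S) X) (_ : Finite X), IsSemicharBiset F X ∧
      ∃ n, Nat.card X = Nat.card S * n ∧ ¬ p ∣ n := by
  have := finite_mulAut_of_le (S := S) le_rfl
  set A := F.autGroup S
  set I := (Inn S).subgroupOf A with hI
  have : I.Normal := inn_subgroupOf_normal F
  let α : (A ⧸ I) → A := fun q => q.out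
  have hm : ∀ β : A, Nat.card {q : A ⧸ I // ((β * (α q)⁻¹ : A) : MulAut S) ∈ Inn S} = 1 := by
    intro β
    have hmem : ∀ q : A ⧸ I, ((β * (α q)⁻¹ : A) : MulAut S) ∈ Inn S ↔ q = (β : A ⧸ I) := by
      intro q
      show β * (α q)⁻¹ ∈ I ↔ _
      conv_rhs => rw [← q.out_eq']
      rw [← QuotientGroup.eq_one_iff, QuotientGroup.mk_mul, QuotientGroup.mk_inv, mul_inv_eq_one]
      exact eq_comm
    rw [Nat.card_eq_one_iff_unique]
    exact ⟨⟨fun a b => Subtype.ext (((hmem _).1 a.2).trans ((hmem _).1 b.2).symm)⟩,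
      ⟨⟨β, (hmem _).2 rfl⟩⟩⟩
  obtain ⟨X, i, j, h1, h2, h3⟩ := exists_stable (twist_domain (F := F))
    (twist_normalizer_maps hS hF) (initialBiset α) (initial_stable α hm)
  refine ⟨X, i, j, isSemicharBiset_of_ext α hm one_pos X h1 h2, ?_⟩
  have hidx : ∀ β : A, (autTwist F β).index = Nat.card S := fun β => by
    have := (autTwist F β).index_mul_card
    rw [autTwist_card, Nat.card_prod] at this
    exact Nat.eq_of_mul_eq_mul_right Nat.card_pos this
  have h0 : Nat.card (initialBiset α) = Nat.card S * Nat.card (A ⧸ I) := by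
    have : Fintype (A ⧸ I) := Fintype.ofFinite _
    show Nat.card (Σ q, (↥S × ↥S) ⧸ autTwist F (α q)) = _
    rw [Nat.card_sigma]
    simp only [← Subgroup.index_eq_card, hidx]
    rw [Finset.sum_const, Finset.card_univ, smul_eq_mul, ← Nat.card_eq_fintype_card, mul_comm,
      Subgroup.index_eq_card]
  have hX := h3 (p * Nat.card S) fun P hP => by
    have h := P.index_mul_card
    rw [hP.1.card_eq, Nat.card_prod] at h
    obtain ⟨a, ha⟩ := IsPGroup.iff_card.1 hS
    have := finite_le (dom_le P)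
    have hlt : Nat.card (dom P) < Nat.card S := lt_of_le_of_ne (Subgroup.card_le_of_le (dom_le P))
      fun e => hP.2 (Subgroup.eq_of_le_of_card_ge (dom_le P) e.ge)
    obtain ⟨b, hb⟩ := IsPGroup.iff_card.1 (hS.to_le (dom_le P))
    rw [ha, hb] at hlt
    have hba : b < a := (Nat.pow_lt_pow_iff_right (Fact.out : p.Prime).one_lt).1 hlt
    obtain ⟨c, rfl⟩ : ∃ c, a = b + (c + 1) := ⟨a - b - 1, by omega⟩
    rw [ha, hb] at h
    refine ⟨p ^ c, Nat.eq_of_mul_eq_mul_right (pow_pos (Fact.out : p.Prime).pos b) ?_⟩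
    rw [h, ha]
    ring
  obtain ⟨n, hn⟩ : Nat.card S ∣ Nat.card X := by
    have hd : Nat.card S ∣ p * Nat.card S := dvd_mul_left _ _
    exact ((hX.of_dvd hd).dvd_iff dvd_rfl).2 (h0 ▸ dvd_mul_right _ _)
  refine ⟨n, hn, fun hpn => ?_⟩
  obtain ⟨R, hR⟩ := IsSaturated.top_autGroup_sylow hS hF
  have hdiv : p * Nat.card S ∣ Nat.card (initialBiset α) :=
    (hX.dvd_iff dvd_rfl).1 (by rw [hn, mul_comm p]; exact Nat.mul_dvd_mul_left _ hpn)
  rw [h0, mul_comm p, Nat.mul_dvd_mul_iff_left Nat.card_pos, ← Subgroup.index_eq_card, hI, ← hR] at hdiv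
  exact R.not_dvd_index hdiv

end CfsgLib.Fusion
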