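import Mathlib.GroupTheory.GroupAction.Quotient
import Mathlib.GroupTheory.Abelianization.Defs
import Mathlib.Algebra.BigOperators.Group.Finset.Basic
import Mathlib.Algebra.Group.Hom.Basic
import Mathlib.Data.ZMod.QuotientGroup
import Mathlib.Algebra.BigOperators.Group.Finset.Sigma

/-!
# Transfer along a free action

`G` and `B` act on `W`, `B` freely, and `g • b • w = θ g b • g • w`.
-/

set_option autoImplicit false

namespace CfsgLib.Fusion.FreeTransfer

open MulAction

variable {G B A W : Type*} [Group G] [Group B] [CommGroup A] [MulAction G W] [MulAction B W]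
  {θ : G →* MulAut B} (hθ : ∀ (g : G) (b : B) (w : W), g • b • w = θ g b • g • w)
  (hfree : ∀ (b : B) (w : W), b • w = w → b = 1)

/-- The action of `G` on the orbits of `B`. -/
def orbMap (g : G) : orbitRel.Quotient B W → orbitRel.Quotient B W :=
  Quotient.map' (g • ·) fun a b h => by
    obtain ⟨c, rfl⟩ := h
    exact ⟨θ g c, (hθ g c b).symm⟩

theorem orbMap_mk (g : G) (w : W) :
    orbMap hθ g (Quotient.mk'' w) = Quotient.mk'' (g • w) := rfl

theorem orbMap_mul (g h : G) (o : orbitRel.Quotient B W) :
    orbMap hθ (g * h) o = orbMap hθ g (orbMap hθ h o) := by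
  induction o using Quotient.inductionOn' with
  | h w => exact congrArg Quotient.mk'' (mul_smul g h w)

theorem orbMap_one (o : orbitRel.Quotient B W) : orbMap hθ 1 o = o := by
  induction o using Quotient.inductionOn' with
  | h w => exact congrArg Quotient.mk'' (one_smul G w)

theorem orbMap_bijective (g : G) : Function.Bijective (orbMap hθ g) :=
  Function.bijective_iff_has_inverse.2 ⟨orbMap hθ g⁻¹,
    fun o => by rw [← orbMap_mul, inv_mul_cancel, orbMap_one],
    fun o => by rw [← orbMap_mul, mul_inv_cancel, orbMap_one]⟩

variable (s : orbitRel.Quotient B W → W) (hs : ∀ o, Quotient.mk'' (s o) = o)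

include hs in
theorem exists_delta (g : G) (o : orbitRel.Quotient B W) :
    ∃ b : B, b • s (orbMap hθ g o) = g • s o := by
  have h : orbMap hθ g o = Quotient.mk'' (g • s o) := by
    conv_lhs => rw [← hs o]
    rfl
  exact Quotient.exact' (h.symm.trans (hs _).symm)

/-- The cocycle of a section. -/
noncomputable def delta (g : G) (o : orbitRel.Quotient B W) : B :=
  (exists_delta hθ s hs g o).choose

theorem delta_spec (g : G) (o : orbitRel.Quotient B W) :
    delta hθ s hs g o • s (orbMap hθ g o) = g • s o :=
  (exists_delta hθ s hs g o).choose_spec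

include hfree in
theorem smul_left_cancel' {b c : B} {w : W} (h : b • w = c • w) : b = c := by
  have h1 : (c⁻¹ * b) • w = w := by rw [mul_smul, h, inv_smul_smul]
  exact (inv_mul_eq_one.1 (hfree _ _ h1)).symm

include hfree in
theorem delta_eq {g : G} {o : orbitRel.Quotient B W} {b : B}
    (h : b • s (orbMap hθ g o) = g • s o) : delta hθ s hs g o = b :=
  smul_left_cancel' hfree ((delta_spec hθ s hs g o).trans h.symm)

include hfree in
theorem delta_mul (g h : G) (o : orbitRel.Quotient B W) :
    delta hθ s hs (g * h) o = θ g (delta hθ s hs h o) * delta hθ s hs g (orbMap hθ h o) := by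
  refine delta_eq hθ hfree s hs ?_
  rw [orbMap_mul, mul_smul, mul_smul, delta_spec, ← hθ, delta_spec]

variable [Fintype (orbitRel.Quotient B W)] (π : B →* A)

/-- The transfer of `g`. -/
noncomputable def transfer (g : G) : A := ∏ o, π (delta hθ s hs g o)

include hfree in
theorem transfer_mul (α : G →* MulAut A) (hπ : ∀ g b, π (θ g b) = α g (π b)) (g h : G) :
    transfer hθ s hs π (g * h) = α g (transfer hθ s hs π h) * transfer hθ s hs π g := by
  rw [transfer, transfer, map_prod]
  conv_rhs => rw [transfer, ← Equiv.prod_comp (Equiv.ofBijective _ (orbMap_bijective hθ h))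
    (fun o => π (delta hθ s hs g o))]
  rw [← Finset.prod_mul_distrib]
  refine Finset.prod_congr rfl fun o _ => ?_
  rw [delta_mul hθ hfree, map_mul, hπ]
  rfl

include hfree in
theorem transfer_of_uniform {g : G} {b : B} (hb : ∀ w : W, g • w = b • w) :
    transfer hθ s hs π g = π b ^ Fintype.card (orbitRel.Quotient B W) := by
  have h : ∀ o, delta hθ s hs g o = b := fun o => by
    refine delta_eq hθ hfree s hs ?_
    have e : orbMap hθ g o = o := by
      rw [← hs o, orbMap_mk, hb]
      exact Quotient.sound' ⟨b, rfl⟩
    rw [e, hb]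
  rw [transfer, Finset.prod_congr rfl fun o _ => congrArg π (h o), Finset.prod_const,
    Finset.card_univ]

include hfree in
theorem transfer_eq_one_of_section {g : G} (h : ∀ o, g • s o = s (orbMap hθ g o)) :
    transfer hθ s hs π g = 1 := by
  refine Finset.prod_eq_one fun o _ => ?_
  rw [delta_eq hθ hfree s hs (b := 1) (by rw [one_smul, h]), map_one]

section Commuting

variable {G' B' A' W' : Type*} [Group G'] [Group B'] [CommGroup A'] [MulAction G' W']
  [MulAction B' W']
  (hc : ∀ (g : G) (b : B) (w : W), g • b • w = b • g • w)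
  (hc' : ∀ (g : G') (b : B') (w : W'), g • b • w = b • g • w)

theorem trivialTwist (g : G) (b : B) (w : W)
    (hc : ∀ (g : G) (b : B) (w : W), g • b • w = b • g • w) :
    g • b • w = (1 : G →* MulAut B) g b • g • w := hc g b w

/-- The transfer homomorphism of commuting actions. -/
noncomputable def transferHom : G →* A :=
  MonoidHom.mk' (transfer (θ := 1) (fun g b w => trivialTwist g b w hc) s hs π) fun g h => by
    rw [transfer_mul (θ := 1) _ hfree s hs π 1 (fun _ _ => rfl), MonoidHom.one_apply,
      MulAut.one_apply, mul_comm]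

theorem transferHom_apply (g : G) :
    transferHom hfree s hs π hc g =
      transfer (θ := 1) (fun g b w => trivialTwist g b w hc) s hs π g := rfl

theorem transferHom_section_indep (s' : orbitRel.Quotient B W → W)
    (hs' : ∀ o, Quotient.mk'' (s' o) = o) :
    transferHom hfree s hs π hc = transferHom hfree s' hs' π hc := by
  refine MonoidHom.ext fun g => ?_
  have hd : ∀ o, ∃ b : B, b • s o = s' o := fun o => Quotient.exact' ((hs' o).trans (hs o).symm)
  choose d hd using hd
  set hθ' : ∀ (g : G) (b : B) (w : W), g • b • w = (1 : G →* MulAut B) g b • g • w :=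
    fun g b w => trivialTwist g b w hc
  have key : ∀ o, d o * delta hθ' s hs g o = delta hθ' s' hs' g o * d (orbMap hθ' g o) := fun o =>
    smul_left_cancel' hfree (w := s (orbMap hθ' g o)) (by
      rw [mul_smul, delta_spec, ← hc, hd, mul_smul, hd, delta_spec])
  have h1 : (∏ o, π (d o)) * transfer hθ' s hs π g = transfer hθ' s' hs' π g * ∏ o, π (d o) := by
    conv_rhs => rw [← Equiv.prod_comp (Equiv.ofBijective _ (orbMap_bijective hθ' g))
      (fun o => π (d o))]
    rw [transfer, transfer, ← Finset.prod_mul_distrib, ← Finset.prod_mul_distrib]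
    refine Finset.prod_congr rfl fun o _ => ?_
    rw [← map_mul, key, map_mul]
    rfl
  rw [mul_comm] at h1
  exact mul_right_cancel h1

include hfree in
/-- Naturality. -/
theorem transferHom_natural [Fintype (orbitRel.Quotient B' W')]
    (hfree' : ∀ (b : B') (w : W'), b • w = w → b = 1)
    (s' : orbitRel.Quotient B' W' → W') (hs' : ∀ o, Quotient.mk'' (s' o) = o) (π' : B' →* A')
    (f : G → G') (βB : B ≃* B') (βA : A →* A') (e : W ≃ W')
    (hB : ∀ b w, e (b • w) = βB b • e w) (hG : ∀ g w, e (g • w) = f g • e w)
    (hπ : ∀ b, π' (βB b) = βA (π b)) (g : G) :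
    transferHom hfree' s' hs' π' hc' (f g) = βA (transferHom hfree s hs π hc g) := by
  let E : orbitRel.Quotient B W ≃ orbitRel.Quotient B' W' :=
    { toFun := Quotient.map' e fun a b h => by
        obtain ⟨c, rfl⟩ := h; exact ⟨βB c, (hB c b).symm⟩
      invFun := Quotient.map' e.symm fun a b h => by
        obtain ⟨c, rfl⟩ := h
        refine ⟨βB.symm c, e.injective ?_⟩
        show e (βB.symm c • e.symm b) = e (e.symm (c • b))
        rw [hB, MulEquiv.apply_symm_apply, e.apply_symm_apply, e.apply_symm_apply]
      left_inv := fun o => Quotient.inductionOn' o fun w => congrArg Quotient.mk'' (e.symm_apply_apply w)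
      right_inv := fun o => Quotient.inductionOn' o fun w => congrArg Quotient.mk'' (e.apply_symm_apply w) }
  have hEmk : ∀ w : W, E (Quotient.mk'' w) = Quotient.mk'' (e w) := fun w => rfl
  let t : orbitRel.Quotient B' W' → W' := fun o => e (s (E.symm o))
  have ht : ∀ o, Quotient.mk'' (t o) = o := fun o => by
    rw [← hEmk, hs, E.apply_symm_apply]
  rw [transferHom_section_indep hfree' s' hs' π' hc' t ht, transferHom_apply, transferHom_apply,
    transfer, transfer, map_prod, ← Equiv.prod_comp E]
  refine Finset.prod_congr rfl fun o _ => ?_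
  set hθ' : ∀ (g : G) (b : B) (w : W), g • b • w = (1 : G →* MulAut B) g b • g • w :=
    fun g b w => trivialTwist g b w hc
  rw [← hπ, delta_eq (θ := (1 : G' →* MulAut B')) _ hfree' t ht (b := βB (delta hθ' s hs g o))]
  have ho : orbMap (θ := (1 : G' →* MulAut B')) (fun g b w => trivialTwist g b w hc') (f g) (E o) =
      E (orbMap hθ' g o) := by
    induction o using Quotient.inductionOn' with
    | h w => rw [hEmk, orbMap_mk, ← hG, orbMap_mk, hEmk]
  show βB _ • e (s (E.symm (orbMap _ (f g) (E o)))) = f g • e (s (E.symm (E o)))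
  rw [ho, E.symm_apply_apply, E.symm_apply_apply, ← hB, delta_spec, hG]

open Classical in
include hfree in
/-- The transfer of an element whose powers act on each fixed orbit with the same values as those of `b`. -/
theorem transferHom_eq_pow' {g : G} {b : B}
    (hb : ∀ (d : ℕ) (w : W) (c : B), c • w = g ^ d • w → π c = π b ^ d) :
    transferHom hfree s hs π hc g = π b ^ Fintype.card (orbitRel.Quotient B W) := by
  set hθ' : ∀ (g : G) (b : B) (w : W), g • b • w = (1 : G →* MulAut B) g b • g • w :=
    fun g b w => trivialTwist g b w hc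
  let act : MulAction G (orbitRel.Quotient B W) :=
    { smul := orbMap hθ'
      one_smul := orbMap_one hθ'
      mul_smul := orbMap_mul hθ' }
  have hsum : ∀ (d : ℕ) o, π (delta hθ' s hs (g ^ d) o) =
      ∏ i ∈ Finset.range d, π (delta hθ' s hs g (orbMap hθ' (g ^ i) o)) := by
    intro d o
    induction d with
    | zero =>
        rw [pow_zero, Finset.range_zero, Finset.prod_empty,
          delta_eq hθ' hfree s hs (b := 1) (by rw [one_smul, one_smul, orbMap_one]), map_one]
    | succ d ih =>
        rw [pow_succ', delta_mul hθ' hfree, map_mul, MonoidHom.one_apply, MulAut.one_apply, ih,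
          Finset.prod_range_succ]
  rw [transferHom_apply, transfer, Fintype.card, ← Finset.prod_const]
  let Q := orbitRel.Quotient (Subgroup.zpowers g) (orbitRel.Quotient B W)
  have : Fintype Q := Fintype.ofFinite _
  let qm : orbitRel.Quotient B W → Q := Quotient.mk''
  rw [← Finset.prod_fiberwise Finset.univ qm,
    ← Finset.prod_fiberwise Finset.univ qm (fun _ => π b)]
  refine Finset.prod_congr rfl fun q _ => ?_
  obtain ⟨o, rfl⟩ : ∃ o, qm o = q := Quotient.mk''_surjective q
  set d := Function.minimalPeriod (g • ·) o with hd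
  have hne : NeZero d := MulAction.minimalPeriod_pos g o
  have hre : ∀ f : orbitRel.Quotient B W → A,
      ∏ x ∈ Finset.univ.filter (fun x => qm x = qm o), f x =
        ∏ i ∈ Finset.range d, f (orbMap hθ' (g ^ i) o) := by
    intro f
    symm
    refine Finset.prod_nbij (fun i => orbMap hθ' (g ^ i) o) (fun i _ => ?_) ?_ ?_ (fun _ _ => rfl)
    · exact Finset.mem_filter.2 ⟨Finset.mem_univ _,
        Quotient.sound' ⟨⟨g ^ i, i, zpow_natCast g i⟩, rfl⟩⟩
    · intro i hi j hj h
      simp only [Finset.coe_range, Set.mem_Iio] at hi hj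
      refine Function.iterate_injOn_Iio_minimalPeriod hi hj ?_
      simp only [smul_iterate]
      exact h
    · intro x hx
      have hx' : x ∈ orbit (Subgroup.zpowers g) o := Quotient.exact' (Finset.mem_filter.1 hx).2
      set k := orbitZPowersEquiv g o ⟨x, hx'⟩ with hk
      refine ⟨k.val, Finset.mem_coe.2 (Finset.mem_range.2 (ZMod.val_lt k)), ?_⟩
      have h := (orbitZPowersEquiv g o).symm_apply_apply ⟨x, hx'⟩
      rw [← hk, orbitZPowersEquiv_symm_apply] at h
      show g ^ k.val • o = x
      refine Eq.trans ?_ (congrArg Subtype.val h)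
      rw [← zpow_natCast, ZMod.natCast_val]
      rfl
  rw [hre, hre, ← hsum, Finset.prod_const, Finset.card_range]
  have hfix : orbMap hθ' (g ^ d) o = o := MulAction.pow_period_smul g o
  refine hb d (s o) _ ?_
  have h := delta_spec hθ' s hs (g ^ d) o
  rwa [hfix] at h

open Classical in
include hfree in
/-- The transfer of an element whose powers act on each fixed orbit as those of `b`. -/
theorem transferHom_eq_pow {g : G} {b : B}
    (hb : ∀ (d : ℕ) (w : W), g ^ d • w ∈ orbit B w → g ^ d • w = b ^ d • w) :
    transferHom hfree s hs π hc g = π b ^ Fintype.card (orbitRel.Quotient B W) :=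
  transferHom_eq_pow' hfree s hs π hc fun d w c hc' => by
    rw [← map_pow]
    exact congrArg π (smul_left_cancel' hfree (hc'.trans (hb d w ⟨c, hc'⟩)))

end Commuting

end CfsgLib.Fusion.FreeTransfer
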