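import Mathlib.GroupTheory.GroupAction.Quotient
import Mathlib.GroupTheory.GroupAction.SubMulAction
import Mathlib.GroupTheory.Sylow
import Mathlib.Algebra.Group.Action.Sum
import Mathlib.Algebra.Group.Action.Sigma
import Mathlib.Data.Int.GCD

/-!
# Marks of finite group actions
-/

set_option autoImplicit false

namespace CfsgLib.Fusion.Marks

open MulAction

universe u v

variable {K : Type*} [Group K]

/-- The number of fixed points of `H` on `X`. -/
noncomputable def mark (H : Subgroup K) (X : Type*) [MulAction K X] : ℕ :=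
  Nat.card (fixedPoints H X)

variable {X Y : Type*} [MulAction K X] [MulAction K Y]

theorem mem_fixedPoints_sub {H : Subgroup K} {x : X} :
    x ∈ fixedPoints H X ↔ ∀ h ∈ H, h • x = x :=
  ⟨fun hx h hh => hx ⟨h, hh⟩, fun hx h => hx h h.2⟩

theorem mark_bot [Finite X] : mark (⊥ : Subgroup K) X = Nat.card X := by
  rw [mark, show fixedPoints (⊥ : Subgroup K) X = Set.univ from Set.eq_univ_of_forall fun x =>
    mem_fixedPoints_sub.2 fun h hh => by rw [Subgroup.mem_bot.1 hh, one_smul]]
  simp

theorem mark_pos [Finite X] {H : Subgroup K} {x : X} (h : H ≤ stabilizer K x) : 0 < mark H X :=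
  Nat.card_pos_iff.2 ⟨⟨⟨x, mem_fixedPoints_sub.2 fun _ hg => h hg⟩⟩, inferInstance⟩

theorem exists_of_mark_pos {H : Subgroup K} (h : 0 < mark H X) :
    ∃ x : X, H ≤ stabilizer K x := by
  obtain ⟨⟨⟨x, hx⟩⟩, -⟩ := Nat.card_pos_iff.1 h
  exact ⟨x, fun g hg => mem_fixedPoints_sub.1 hx g hg⟩

theorem mark_eq_zero {H : Subgroup K} (h : ∀ x : X, ¬ H ≤ stabilizer K x) : mark H X = 0 := by
  rw [mark]
  have : IsEmpty (fixedPoints H X) := ⟨fun x => h x fun g hg => mem_fixedPoints_sub.1 x.2 g hg⟩
  exact Nat.card_of_isEmpty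

theorem mark_congr (H : Subgroup K) (e : X ≃ Y) (he : ∀ (k : K) x, e (k • x) = k • e x) :
    mark H X = mark H Y := by
  refine Nat.card_congr (e.subtypeEquiv fun x => ?_)
  rw [mem_fixedPoints_sub, mem_fixedPoints_sub]
  refine forall₂_congr fun k _ => ?_
  rw [← he, e.apply_eq_iff_eq]

theorem mark_conj (k : K) (H : Subgroup K) :
    mark (H.map (MulAut.conj k).toMonoidHom) X = mark H X := by
  refine (Nat.card_congr ((MulAction.toPerm k).subtypeEquiv fun x => ?_)).symm
  rw [mem_fixedPoints_sub, mem_fixedPoints_sub]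
  constructor
  · rintro hx _ ⟨h, hh, rfl⟩
    show (k * h * k⁻¹) • k • x = k • x
    rw [smul_smul, inv_mul_cancel_right, mul_smul, hx h hh]
  · intro hx h hh
    have h1 := hx (k * h * k⁻¹) ⟨h, hh, rfl⟩
    simp only [MulAction.toPerm_apply] at h1
    rw [smul_smul, inv_mul_cancel_right, mul_smul] at h1
    exact MulAction.injective k h1

theorem mark_map {A : Type*} [Group A] (f : A →* K) (L : Subgroup A) :
    mark (L.map f) X = @mark A _ L X (MulAction.compHom X f) := by
  refine Nat.card_congr ((Equiv.refl X).subtypeEquiv fun x => ?_)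
  constructor
  · intro hx a
    exact mem_fixedPoints_sub.1 hx _ ⟨a, a.2, rfl⟩
  · intro hx
    refine mem_fixedPoints_sub.2 ?_
    rintro _ ⟨a, ha, rfl⟩
    exact hx ⟨a, ha⟩

theorem mark_sum [Finite X] [Finite Y] (H : Subgroup K) :
    mark H (X ⊕ Y) = mark H X + mark H Y := by
  rw [mark, mark, mark, ← Nat.card_sum]
  exact Nat.card_congr
    { toFun := fun x => match x with
        | ⟨.inl a, h⟩ => .inl ⟨a, fun g => Sum.inl_injective (h g)⟩
        | ⟨.inr a, h⟩ => .inr ⟨a, fun g => Sum.inr_injective (h g)⟩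
      invFun := fun x => match x with
        | .inl a => ⟨.inl a, fun g => congrArg Sum.inl (a.2 g)⟩
        | .inr a => ⟨.inr a, fun g => congrArg Sum.inr (a.2 g)⟩
      left_inv := by rintro ⟨a | a, h⟩ <;> rfl
      right_inv := by rintro (a | a) <;> rfl }

theorem mark_sigma {ι : Type*} [Fintype ι] {Z : ι → Type*} [∀ i, MulAction K (Z i)]
    [∀ i, Finite (Z i)] (H : Subgroup K) :
    mark H (Σ i, Z i) = ∑ i, mark H (Z i) := by
  unfold mark
  rw [← Nat.card_sigma]
  exact Nat.card_congr
    { toFun := fun x => ⟨x.1.1, x.1.2, fun g => eq_of_heq (Sigma.mk.inj_iff.1 (x.2 g)).2⟩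
      invFun := fun x => ⟨⟨x.1, x.2.1⟩, fun g => congrArg (Sigma.mk x.1) (x.2.2 g)⟩
      left_inv := fun x => rfl
      right_inv := fun x => rfl }

theorem stabilizer_inl (x : X) : stabilizer K (Sum.inl x : X ⊕ Y) = stabilizer K x := by
  ext k
  simp [mem_stabilizer_iff]

theorem stabilizer_inr (y : Y) : stabilizer K (Sum.inr y : X ⊕ Y) = stabilizer K y := by
  ext k
  simp [mem_stabilizer_iff]

theorem stabilizer_sigma {ι : Type*} {Z : ι → Type*} [∀ i, MulAction K (Z i)] (i : ι) (z : Z i) :
    stabilizer K (⟨i, z⟩ : Σ i, Z i) = stabilizer K z := by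
  ext k
  simp [mem_stabilizer_iff]

theorem stabilizer_coset (P : Subgroup K) (k : K) :
    stabilizer K (k : K ⧸ P) = P.map (MulAut.conj k).toMonoidHom := by
  have := stabilizer_smul_eq_stabilizer_map_conj (G := K) k ((1 : K) : K ⧸ P)
  rw [stabilizer_quotient, MulAction.Quotient.smul_coe, smul_eq_mul, mul_one] at this
  exact this

theorem mark_coset_eq_zero {H P : Subgroup K}
    (h : ∀ k : K, ¬ H ≤ P.map (MulAut.conj k).toMonoidHom) : mark H (K ⧸ P) = 0 :=
  mark_eq_zero fun x => QuotientGroup.induction_on x fun k => by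
    rw [stabilizer_coset]; exact h k

/-- The order of `N(P) / P`. -/
noncomputable def weight (P : Subgroup K) : ℕ := mark P (K ⧸ P)

theorem weight_mul_card [Finite K] (P : Subgroup K) :
    weight P * Nat.card P = Nat.card (Subgroup.normalizer (P : Set K)) := by
  have h := Subgroup.card_eq_card_quotient_mul_card_subgroup
    ((P.subgroupOf (Subgroup.normalizer (P : Set K))))
  rw [Nat.card_congr (Subgroup.subgroupOfEquivOfLe Subgroup.le_normalizer).toEquiv] at h
  exact (congrArg (· * Nat.card P) (Nat.card_congr (Sylow.fixedPointsMulLeftCosetsEquivQuotient P))).trans h.symm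

theorem weight_conj (k : K) (P : Subgroup K) [Finite K] :
    weight (P.map (MulAut.conj k).toMonoidHom) = weight P := by
  have h1 := weight_mul_card (P.map (MulAut.conj k).toMonoidHom)
  have hn : Subgroup.normalizer ((P.map (MulAut.conj k).toMonoidHom : Subgroup K) : Set K) =
      (Subgroup.normalizer (P : Set K)).map (MulAut.conj k).toMonoidHom :=
    (Subgroup.map_equiv_normalizer_eq P (MulAut.conj k)).symm
  rw [hn, Subgroup.card_map_of_injective (MulAut.conj k).injective,
    Subgroup.card_map_of_injective (MulAut.conj k).injective, ← weight_mul_card P] at h1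
  exact Nat.eq_of_mul_eq_mul_right Nat.card_pos h1

theorem weight_dvd_card [Finite K] (P : Subgroup K) : weight P ∣ Nat.card K :=
  (Dvd.intro _ (weight_mul_card P)).trans (Subgroup.card_subgroup_dvd_card _)

theorem card_dvd_sum_mark [Fintype K] (Q : Subgroup K) [Q.Normal] (Z : Type*) [MulAction K Z]
    [Finite Z] : Fintype.card K ∣ ∑ a : K, mark (Q ⊔ Subgroup.zpowers a) Z := by
  classical
  let W : SubMulAction K Z :=
    { carrier := fixedPoints Q Z
      smul_mem' := fun k z hz => mem_fixedPoints_sub.2 fun q hq => by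
        have hq' := Subgroup.Normal.conj_mem' ‹Q.Normal› q hq k
        have := mem_fixedPoints_sub.1 hz _ hq'
        rw [mul_smul, mul_smul, inv_smul_eq_iff] at this
        exact this }
  have : Fintype W := Fintype.ofFinite _
  have : Fintype (MulAction.orbitRel.Quotient K W) := Fintype.ofFinite _
  refine ⟨Fintype.card (MulAction.orbitRel.Quotient K W), ?_⟩
  rw [mul_comm, ← MulAction.sum_card_fixedBy_eq_card_orbits_mul_card_group K W]
  refine Finset.sum_congr rfl fun a _ => ?_
  rw [← Nat.card_eq_fintype_card, mark]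
  refine Nat.card_congr
    { toFun := fun z => ⟨⟨z.1, mem_fixedPoints_sub.2 fun q hq =>
        mem_fixedPoints_sub.1 z.2 q (le_sup_left (b := Subgroup.zpowers a) hq)⟩,
        Subtype.ext (mem_fixedPoints_sub.1 z.2 a (le_sup_right (a := Q) (Subgroup.mem_zpowers a)))⟩
      invFun := fun z => ⟨z.1.1, mem_fixedPoints_sub.2 fun g hg => ?_⟩
      left_inv := fun z => rfl
      right_inv := fun z => rfl }
  have hle : Q ⊔ Subgroup.zpowers a ≤ stabilizer K (z.1.1) :=
    sup_le (fun q hq => mem_fixedPoints_sub.1 z.1.2 q hq)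
      (Subgroup.zpowers_le.2 (congrArg Subtype.val z.2))
  exact hle hg

/-- Burnside's congruence: actions agreeing above a normal subgroup `Q` have congruent marks at
`Q`. -/
theorem mark_congruent [Finite K] (Q : Subgroup K) [Q.Normal] [Finite X] [Finite Y]
    (h : ∀ L : Subgroup K, Q < L → mark L X = mark L Y) :
    (Q.index : ℤ) ∣ (mark Q X : ℤ) - mark Q Y := by
  classical
  have : Fintype K := Fintype.ofFinite K
  have hX := card_dvd_sum_mark Q X
  have hY := card_dvd_sum_mark Q Y
  have hdiff : (∑ a : K, (mark (Q ⊔ Subgroup.zpowers a) X : ℤ)) -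
      ∑ a : K, (mark (Q ⊔ Subgroup.zpowers a) Y : ℤ) =
      Nat.card Q * ((mark Q X : ℤ) - mark Q Y) := by
    rw [← Finset.sum_sub_distrib, ← Finset.sum_subset (Finset.subset_univ (Finset.univ.filter (· ∈ Q)))]
    · rw [Finset.sum_congr rfl (g := fun _ => (mark Q X : ℤ) - mark Q Y), Finset.sum_const,
        nsmul_eq_mul, Nat.card_eq_fintype_card, Fintype.card_subtype]
      intro a ha
      rw [sup_eq_left.2 (Subgroup.zpowers_le.2 (Finset.mem_filter.1 ha).2)]
    · intro a _ ha
      have ha' : a ∉ Q := fun h => ha (Finset.mem_filter.2 ⟨Finset.mem_univ _, h⟩)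
      rw [h _ (left_lt_sup.2 fun h => ha' (h (Subgroup.mem_zpowers a))), sub_self]
  have hdvd : (Nat.card K : ℤ) ∣ Nat.card Q * ((mark Q X : ℤ) - mark Q Y) := by
    rw [← hdiff, Nat.card_eq_fintype_card]
    refine dvd_sub ?_ ?_
    · exact_mod_cast hX
    · exact_mod_cast hY
  rw [← Q.card_mul_index, Nat.cast_mul] at hdvd
  exact (mul_dvd_mul_iff_left (by exact_mod_cast Nat.card_pos.ne')).1 hdvd

/-- Finite actions with equal marks are isomorphic. -/
theorem nonempty_equiv_of_marks [Finite K] : ∀ (n : ℕ) (X : Type u) (Y : Type v)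
    [MulAction K X] [MulAction K Y] [Finite X] [Finite Y], Nat.card X ≤ n →
    (∀ H : Subgroup K, mark H X = mark H Y) →
    ∃ e : X ≃ Y, ∀ (k : K) x, e (k • x) = k • e x := by
  intro n
  induction n with
  | zero =>
      intro X Y _ _ _ _ hn h
      have hX : IsEmpty X := Finite.card_eq_zero_iff.1 (Nat.le_zero.1 hn)
      have h0 := h ⊥
      rw [mark_bot, mark_bot, Nat.le_zero.1 hn] at h0
      have hY : IsEmpty Y := Finite.card_eq_zero_iff.1 h0.symm
      exact ⟨Equiv.equivOfIsEmpty X Y, fun k x => isEmptyElim x⟩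
  | succ n ih =>
      intro X Y _ _ _ _ hn h
      classical
      rcases isEmpty_or_nonempty X with hX | hX
      · exact ih X Y (by rw [Nat.card_of_isEmpty]; exact Nat.zero_le _) h
      have : Fintype X := Fintype.ofFinite _
      obtain ⟨x, -, hx⟩ := Finset.exists_max_image Finset.univ
        (fun x : X => Nat.card (stabilizer K x)) Finset.univ_nonempty
      obtain ⟨y, hy⟩ := exists_of_mark_pos (X := Y) (h _ ▸ mark_pos (le_refl (stabilizer K x)))
      obtain ⟨x', hx'⟩ := exists_of_mark_pos (X := X) ((h _).symm ▸ mark_pos (le_refl (stabilizer K y)))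
      have hxy : stabilizer K x = stabilizer K y :=
        Subgroup.eq_of_le_of_card_ge hy ((Subgroup.card_le_of_le hx').trans (hx x' (Finset.mem_univ _)))
      have : Fintype X := Fintype.ofFinite _
      -- the two orbits
      let OX : SubMulAction K X :=
        { carrier := orbit K x
          smul_mem' := fun k _ hz => mem_orbit_of_mem_orbit k hz }
      let OY : SubMulAction K Y :=
        { carrier := orbit K y
          smul_mem' := fun k _ hz => mem_orbit_of_mem_orbit k hz }
      let X' : SubMulAction K X :=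
        { carrier := (orbit K x)ᶜ
          smul_mem' := fun k z hz hk =>
            hz (by simpa using mem_orbit_of_mem_orbit k⁻¹ hk) }
      let Y' : SubMulAction K Y :=
        { carrier := (orbit K y)ᶜ
          smul_mem' := fun k z hz hk =>
            hz (by simpa using mem_orbit_of_mem_orbit k⁻¹ hk) }
      let eX : OX ⊕ X' ≃ X := Equiv.sumCompl (· ∈ orbit K x)
      let eY : OY ⊕ Y' ≃ Y := Equiv.sumCompl (· ∈ orbit K y)
      have heX : ∀ (k : K) z, eX (k • z) = k • eX z := by rintro k (z | z) <;> rfl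
      have heY : ∀ (k : K) z, eY (k • z) = k • eY z := by rintro k (z | z) <;> rfl
      let eO : OX ≃ OY := ((orbitEquivQuotientStabilizer K x).trans
        (Subgroup.quotientEquivOfEq hxy)).trans (orbitEquivQuotientStabilizer K y).symm
      have heO : ∀ a : K, eO ⟨a • x, ⟨a, rfl⟩⟩ = ⟨a • y, ⟨a, rfl⟩⟩ := by
        intro a
        have h1 : orbitEquivQuotientStabilizer K x ⟨a • x, ⟨a, rfl⟩⟩ = (a : K ⧸ stabilizer K x) :=
          (Equiv.eq_symm_apply _).1 (Subtype.ext
            (orbitEquivQuotientStabilizer_symm_apply K x a).symm)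
        show (orbitEquivQuotientStabilizer K y).symm (Subgroup.quotientEquivOfEq hxy
          (orbitEquivQuotientStabilizer K x ⟨a • x, ⟨a, rfl⟩⟩)) = _
        rw [h1]
        exact Subtype.ext (orbitEquivQuotientStabilizer_symm_apply K y a)
      have heO' : ∀ (k : K) z, eO (k • z) = k • eO z := by
        rintro k ⟨_, a, rfl⟩
        rw [show k • (⟨a • x, ⟨a, rfl⟩⟩ : OX) = ⟨(k * a) • x, ⟨k * a, rfl⟩⟩ from
          Subtype.ext (mul_smul k a x).symm, heO, heO]
        exact Subtype.ext (mul_smul k a y)
      have hm : ∀ H : Subgroup K, mark H X' = mark H Y' := fun H => by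
        have := h H
        rw [← mark_congr H eX heX, ← mark_congr H eY heY, mark_sum, mark_sum,
          mark_congr H eO heO'] at this
        omega
      have hlt : Nat.card X' ≤ n := by
        have h1 : Nat.card (X' : Type u) < Nat.card X :=
          Finite.card_subtype_lt (p := fun z => z ∈ (orbit K x)ᶜ) (x := x) (by simp)
        omega
      obtain ⟨e', he'⟩ := ih X' Y' hlt hm
      refine ⟨eX.symm.trans ((eO.sumCongr e').trans eY), fun k z => ?_⟩
      obtain ⟨w, rfl⟩ := eX.surjective z
      simp only [Equiv.trans_apply, Equiv.symm_apply_apply, ← heX]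
      rcases w with w | w
      · rw [show eO.sumCongr e' (k • Sum.inl w) = k • eO.sumCongr e' (Sum.inl w) from
          congrArg Sum.inl (heO' k w), heY]
      · rw [show eO.sumCongr e' (k • Sum.inr w) = k • eO.sumCongr e' (Sum.inr w) from
          congrArg Sum.inr (he' k w), heY]

end CfsgLib.Fusion.Marks
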