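import Cfsg.Agent.Lib.Fusion.Biset.Existence
import Cfsg.Agent.Lib.Fusion.Biset.FreeTransfer
import Cfsg.Agent.Lib.Fusion.Focal

/-!
# Park's embedding and the intersection of the focal subgroup with the centre
-/

set_option autoImplicit false

namespace CfsgLib.Fusion

open Cfsg Cfsg.FusionSystem MulAction Marks

universe u

variable {Ω : Type u} [Group Ω] {S : Subgroup Ω} {F : FusionSystem S} {p : ℕ}
  {X : Type u} [MulAction (↥S × ↥S) X]

variable (S X) in
/-- Right multiplication by elements of `S`, as an action. -/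
def rightAct : MulAction S X := MulAction.compHom X (MonoidHom.inr S S)

variable (S X) in
/-- The automorphisms of the right `S`-set. -/
def parkGroup : Subgroup (Equiv.Perm X) where
  carrier := {g | ∀ (b : S) (x : X), g (((1, b) : ↥S × ↥S) • x) = ((1, b) : ↥S × ↥S) • g x}
  one_mem' := fun _ _ => rfl
  mul_mem' := fun {a c} ha hc b x => by rw [Equiv.Perm.mul_apply, hc, ha]; rfl
  inv_mem' := fun {a} ha b x => by
    apply a.injective
    rw [ha]
    simp

variable (S X) in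
/-- Left multiplication as an element of `parkGroup`. -/
def parkEmb : S →* parkGroup S X :=
  ((MulAction.toPermHom (↥S × ↥S) X).comp (MonoidHom.inl S S)).codRestrict _ fun a b x => by
    show ((a, 1) : ↥S × ↥S) • ((1, b) : ↥S × ↥S) • x = ((1, b) : ↥S × ↥S) • ((a, 1) : ↥S × ↥S) • x
    rw [smul_smul, smul_smul, Prod.mk_mul_mk, Prod.mk_mul_mk, one_mul, mul_one, one_mul, mul_one]

theorem parkEmb_apply (a : S) (x : X) :
    (parkEmb S X a : Equiv.Perm X) x = ((a, 1) : ↥S × ↥S) • x := rfl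

theorem smul_split (a b : S) (x : X) :
    ((a, b) : ↥S × ↥S) • x = ((a, 1) : ↥S × ↥S) • ((1, b) : ↥S × ↥S) • x := by
  rw [smul_smul, Prod.mk_mul_mk, mul_one, one_mul]

theorem IsSemicharBiset.right_free (hX : IsSemicharBiset F X) (b : S) (x : X)
    (h : ((1, b) : ↥S × ↥S) • x = x) : b = 1 := by
  obtain ⟨P, φ, hφ, hT⟩ := hX.twisted x
  obtain ⟨hb, e⟩ := (hT _).1 (mem_stabilizer_iff.2 h)
  have h1 := F.injective_of_mem hφ (e.trans (map_one φ).symm)
  exact Subtype.ext (show (b : Ω) = 1 from congrArg (fun y : P => (y : Ω)) h1)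

theorem IsSemicharBiset.left_free (hX : IsSemicharBiset F X) (a : S) (x : X)
    (h : ((a, 1) : ↥S × ↥S) • x = x) : a = 1 := by
  obtain ⟨P, φ, hφ, hT⟩ := hX.twisted x
  obtain ⟨hb, e⟩ := (hT _).1 (mem_stabilizer_iff.2 h)
  exact Subtype.ext (e.symm.trans ((congrArg φ (Subtype.ext rfl : (⟨_, hb⟩ : P) = 1)).trans (map_one φ)))

theorem IsSemicharBiset.exists_diag_point (hX : IsSemicharBiset F X) :
    ∃ x : X, ∀ a : S, ((a, a) : ↥S × ↥S) • x = x := by
  obtain ⟨x, hx⟩ := exists_of_mark_pos hX.diag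
  exact ⟨x, fun a => hx ⟨a.2, rfl⟩⟩

theorem parkEmb_injective (hX : IsSemicharBiset F X) : Function.Injective (parkEmb S X) := by
  refine (injective_iff_map_eq_one _).2 fun a ha => ?_
  obtain ⟨x, -⟩ := hX.exists_diag_point
  exact hX.left_free a x (congrArg (fun g : parkGroup S X => (g : Equiv.Perm X) x) ha)

/-- Every map of the system is a conjugation in `parkGroup`. -/
theorem IsSemicharBiset.exists_conj [Finite S] [Finite X] (hX : IsSemicharBiset F X)
    {P : Subgroup Ω} {φ : P →* Ω} (hφ : φ ∈ F.Hom P) :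
    ∃ g : parkGroup S X, ∀ x : P,
      parkEmb S X ⟨φ x, hom_apply_mem hφ x⟩ * g = g * parkEmb S X ⟨x, hom_le hφ x.2⟩ := by
  have hP := hom_le hφ
  have := finite_le hP
  let f₁ : ↥P × ↥S →* ↥S × ↥S := (Subgroup.inclusion hP).prodMap (MonoidHom.id S)
  let f₂ : ↥P × ↥S →* ↥S × ↥S := (φ.codRestrict S (hom_apply_mem hφ)).prodMap (MonoidHom.id S)
  have hmark : ∀ L : Subgroup (↥P × ↥S), mark (L.map f₁) X = mark (L.map f₂) X := by
    intro L
    have hrel : Related F (L.map f₁) (L.map f₂) := by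
      refine ⟨S, P, S.subtype, incl_mem le_rfl, φ, hφ, fun k _ => k.2.2, ?_, fun m => ?_⟩
      · rintro _ ⟨l, -, rfl⟩; exact l.1.2
      · constructor
        · rintro ⟨l, hl, rfl⟩
          exact ⟨f₁ l, ⟨l, hl, rfl⟩, rfl, rfl⟩
        · rintro ⟨_, ⟨l, hl, rfl⟩, h1, h2⟩
          exact ⟨l, hl, Prod.ext (Subtype.ext h1) (Subtype.ext h2)⟩
    rcases hrel.rel with ⟨hL, hM, hc⟩ | ⟨hL, hM⟩
    · exact hX.stable _ _ hL hM hc
    · rw [mark_eq_zero fun x h => hL ((hX.twisted x).mono h),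
        mark_eq_zero fun x h => hM ((hX.twisted x).mono h)]
  obtain ⟨e, he⟩ := @nonempty_equiv_of_marks (↥P × ↥S) _ _ _ X X (MulAction.compHom X f₁)
    (MulAction.compHom X f₂) _ _ le_rfl fun L => by rw [← mark_map, ← mark_map, hmark]
  refine ⟨⟨e, fun b x => ?_⟩, fun x => Subtype.ext (Equiv.ext fun y => ?_)⟩
  · have h := he (1, b) x
    show e (((1, b) : ↥S × ↥S) • x) = ((1, b) : ↥S × ↥S) • e x
    rw [show ((1, b) : ↥S × ↥S) = f₁ ((1 : ↥P), b) from Prod.ext (map_one (Subgroup.inclusion hP)).symm rfl]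
    refine h.trans ?_
    show f₂ (1, b) • e x = f₁ (1, b) • e x
    congr 1
    exact Prod.ext ((map_one (φ.codRestrict S (hom_apply_mem hφ))).trans (map_one (Subgroup.inclusion hP)).symm) rfl
  · exact (he (x, 1) y).symm

/-- Conjugations in `parkGroup` between subgroups of `S` are maps of the system. -/
theorem IsSemicharBiset.mem_of_conj (hX : IsSemicharBiset F X) {P : Subgroup Ω} (hP : P ≤ S)
    {φ : P →* Ω} (hφS : ∀ x : P, φ x ∈ S) (g : parkGroup S X)
    (h : ∀ x : P, parkEmb S X ⟨φ x, hφS x⟩ * g = g * parkEmb S X ⟨x, hP x.2⟩) :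
    φ ∈ F.Hom P := by
  obtain ⟨x₀, hx₀⟩ := hX.exists_diag_point
  obtain ⟨R, ψ, hψ, hT⟩ := hX.twisted ((g : Equiv.Perm X) x₀)
  have key : ∀ q : P, ∃ hq : (q : Ω) ∈ R, ψ ⟨q, hq⟩ = φ q := fun q => by
    refine (hT ((⟨φ q, hφS q⟩, ⟨q, hP q.2⟩) : ↥S × ↥S)).1 (mem_stabilizer_iff.2 ?_)
    set y := ((1, (⟨q, hP q.2⟩ : S)) : ↥S × ↥S) • x₀ with hy
    have h1 : ((⟨φ q, hφS q⟩, 1) : ↥S × ↥S) • (g : Equiv.Perm X) y =
        (g : Equiv.Perm X) (((⟨q, hP q.2⟩, 1) : ↥S × ↥S) • y) :=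
      congrArg (fun k : parkGroup S X => (k : Equiv.Perm X) y) (h q)
    rw [smul_split, ← g.2, ← hy, h1, hy, ← smul_split, hx₀]
  refine restrict_mem' hψ (fun x hx => (key ⟨x, hx⟩).1) fun q => ?_
  exact ((key q).2).symm

theorem IsSemicharBiset.isRealizedBy [Finite S] [Finite X] (hX : IsSemicharBiset F X) :
    F.IsRealizedBy (parkEmb S X) := by
  refine ⟨parkEmb_injective hX, fun P hP φ hφS => ⟨fun hφ => ?_, fun ⟨g, hg⟩ => ?_⟩⟩
  · obtain ⟨g, hg⟩ := hX.exists_conj hφ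
    exact ⟨g, fun x => eq_mul_inv_of_mul_eq (hg x)⟩
  · exact hX.mem_of_conj hP hφS g fun x => by rw [hg x, inv_mul_cancel_right]

/-- Every fusion system on a finite `p`-group is realized inside a finite group. -/
theorem exists_realizing_group (F : FusionSystem S) [Finite S] :
    ∃ (G : Type u) (_ : Group G) (_ : Finite G) (ι : ↥S →* G), F.IsRealizedBy ι := by
  obtain ⟨X, i, j, hX⟩ := exists_semicharBiset (F := F)
  exact ⟨parkGroup S X, inferInstance, inferInstance, parkEmb S X, hX.isRealizedBy⟩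

theorem card_eq_card_mul_orbits {B W : Type*} [Group B] [MulAction B W]
    (hfree : ∀ (b : B) (w : W), b • w = w → b = 1) :
    Nat.card W = Nat.card B * Nat.card (orbitRel.Quotient B W) := by
  rw [← Nat.card_prod]
  refine (Nat.card_congr (Equiv.ofBijective
    (fun c : B × orbitRel.Quotient B W => c.1 • c.2.out) ⟨fun a b h => ?_, fun w => ?_⟩)).symm
  · have ho : a.2 = b.2 := by
      rw [← a.2.out_eq', ← b.2.out_eq']
      refine Quotient.sound' ⟨a.1⁻¹ * b.1, ?_⟩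
      show (a.1⁻¹ * b.1) • b.2.out = a.2.out
      rw [mul_smul, inv_smul_eq_iff]
      exact h.symm
    refine Prod.ext (FreeTransfer.smul_left_cancel' hfree (w := b.2.out) ?_) ho
    conv_lhs => rw [← ho]
    exact h
  · obtain ⟨b, hb⟩ := Quotient.exact' (Quotient.out_eq' (Quotient.mk'' w : orbitRel.Quotient B W)).symm
    exact ⟨⟨b, _⟩, hb⟩

/-- The focal subgroup meets the centre in the derived subgroup. -/
theorem focal_inf_center [Fact p.Prime] [Finite S] (hS : IsPGroup p S) (hF : F.IsSaturated p) :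
    F.focalSubgroup ⊓ F.center ≤ ⁅S, S⁆ := by
  classical
  obtain ⟨X, i, j, hX, n, hn, hpn⟩ := exists_charBiset (F := F) hS hF
  let _ : MulAction S X := rightAct S X
  have hc : ∀ (g : parkGroup S X) (b : S) (x : X), g • b • x = b • g • x := fun g b x => g.2 b x
  have hfree : ∀ (b : S) (x : X), b • x = x → b = 1 := fun b x h => hX.right_free b x h
  have : Fintype (orbitRel.Quotient S X) := Fintype.ofFinite _
  let τ := FreeTransfer.transferHom (G := parkGroup S X) hfree Quotient.out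
    (fun o => o.out_eq') (Abelianization.of : S →* Abelianization S) hc
  have hfoc : ∀ y ∈ F.focalSubgroup, ∃ hy : y ∈ S, τ (parkEmb S X ⟨y, hy⟩) = 1 := by
    intro y hy
    induction hy using Subgroup.closure_induction with
    | mem y hy =>
        obtain ⟨P, φ, x, hφ, rfl⟩ := hy
        refine ⟨S.mul_mem (S.inv_mem (hom_le hφ x.2)) (hom_apply_mem hφ x), ?_⟩
        obtain ⟨g, hg⟩ := hX.exists_conj hφ
        have h2 := congrArg τ (hg x)
        rw [map_mul, map_mul, mul_comm] at h2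
        have h3 := mul_left_cancel h2
        rw [show (⟨(x : Ω)⁻¹ * φ x, _⟩ : S) = (⟨x, hom_le hφ x.2⟩ : S)⁻¹ * ⟨φ x, hom_apply_mem hφ x⟩ from rfl,
          map_mul, map_mul, h3, ← map_mul, ← map_mul, inv_mul_cancel, map_one, map_one]
    | one => exact ⟨S.one_mem, by rw [show (⟨1, S.one_mem⟩ : S) = 1 from rfl, map_one, map_one]⟩
    | mul a b _ _ ha hb =>
        obtain ⟨ha, ha'⟩ := ha
        obtain ⟨hb, hb'⟩ := hb
        refine ⟨S.mul_mem ha hb, ?_⟩
        rw [show (⟨a * b, S.mul_mem ha hb⟩ : S) = ⟨a, ha⟩ * ⟨b, hb⟩ from rfl, map_mul, map_mul,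
          ha', hb', one_mul]
    | inv a _ ha =>
        obtain ⟨ha, ha'⟩ := ha
        refine ⟨S.inv_mem ha, ?_⟩
        rw [show (⟨a⁻¹, S.inv_mem ha⟩ : S) = ⟨a, ha⟩⁻¹ from rfl, map_inv, map_inv, ha', inv_one]
  rintro z ⟨hzf, hzc⟩
  obtain ⟨hzS, hz1⟩ := hfoc z hzf
  set zS : S := ⟨z, hzS⟩ with hzS'
  have hpow : τ (parkEmb S X zS) = Abelianization.of zS⁻¹ ^ Fintype.card (orbitRel.Quotient S X) := by
    refine FreeTransfer.transferHom_eq_pow hfree _ _ _ hc fun d x hx => ?_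
    rw [← map_pow] at hx ⊢
    obtain ⟨b, hb⟩ := hx
    have hb' : ((1, b) : ↥S × ↥S) • x = ((zS ^ d, 1) : ↥S × ↥S) • x := hb
    have hfix : ((zS ^ d, b⁻¹) : ↥S × ↥S) • x = x := by
      rw [show ((zS ^ d, b⁻¹) : ↥S × ↥S) = ((1, b⁻¹) : ↥S × ↥S) * (zS ^ d, 1) by
        rw [Prod.mk_mul_mk, one_mul, mul_one], mul_smul, ← hb', smul_smul, Prod.mk_mul_mk,
        one_mul, inv_mul_cancel]
      exact one_smul _ x
    obtain ⟨P, φ, hφ, hT⟩ := hX.twisted x
    obtain ⟨hbP, e⟩ := (hT _).1 (mem_stabilizer_iff.2 hfix)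
    obtain ⟨ψ, hψ, -, hψl, -⟩ := exists_inv hφ rfl
    obtain ⟨χ, -, hχ1, hχ2⟩ := (center_isCentral (F := F)).2 _ ψ hψ
    have hzd : ((zS ^ d : S) : Ω) ∈ F.center := F.center.pow_mem hzc d
    have h1 : ψ ⟨((zS ^ d : S) : Ω), ⟨_, e⟩⟩ = ((zS ^ d : S) : Ω) := by
      rw [← hχ1]
      exact hχ2 ⟨_, hzd⟩
    have h2 : ψ ⟨((zS ^ d : S) : Ω), ⟨_, e⟩⟩ = ((b⁻¹ : S) : Ω) := by
      rw [show (⟨((zS ^ d : S) : Ω), ⟨_, e⟩⟩ : φ.range) = ⟨φ ⟨_, hbP⟩, ⟨_, rfl⟩⟩ from Subtype.ext e.symm]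
      exact hψl _ _
    have hbz : b = (zS⁻¹) ^ d := by
      have h3 : b⁻¹ = zS ^ d := Subtype.ext (h2.symm.trans h1)
      rw [inv_pow, ← h3, inv_inv]
    rw [← hbz]
    exact hb.symm
  rw [hz1, map_inv, inv_pow, eq_comm, inv_eq_one] at hpow
  have hcard : Fintype.card (orbitRel.Quotient S X) = n := by
    rw [← Nat.card_eq_fintype_card]
    exact Nat.eq_of_mul_eq_mul_left Nat.card_pos ((card_eq_card_mul_orbits hfree).symm.trans hn)
  rw [hcard] at hpow
  have h1 : Abelianization.of zS = 1 := by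
    obtain ⟨k, hk⟩ := hS zS
    have hcop : Nat.Coprime (p ^ k) n :=
      Nat.Coprime.pow_left _ ((Fact.out : p.Prime).coprime_iff_not_dvd.2 hpn)
    have h := orderOf_dvd_of_pow_eq_one hpow
    have h' : orderOf (Abelianization.of zS) ∣ p ^ k :=
      orderOf_dvd_of_pow_eq_one (by rw [← map_pow, hk, map_one])
    exact orderOf_eq_one_iff.1 (Nat.eq_one_of_dvd_coprimes hcop h' h)
  have hmem : zS ∈ commutator S := (QuotientGroup.eq_one_iff _).1 h1
  rw [← Subgroup.map_subtype_commutator]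
  exact ⟨zS, hmem, rfl⟩

end CfsgLib.Fusion
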