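import Cfsg.Agent.Lib.Fusion.Biset.Marks

/-!
# Stabilising marks along an equivalence of subgroups
-/

set_option autoImplicit false

namespace CfsgLib.Fusion.Marks

open MulAction
open scoped Pointwise

universe u

variable {K : Type u} [Group K]

/-- A family of subgroups in which marks get corrected: closed downwards and under `r`. -/
structure Domain (r : Setoid (Subgroup K)) (H : Subgroup K → Prop) : Prop where
  conj_rel : ∀ (k : K) (P : Subgroup K), r P (P.map (MulAut.conj k).toMonoidHom)
  mem_of_rel : ∀ P Q, r P Q → H P → H Q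
  mono : ∀ P Q, P ≤ Q → H Q → H P
  card_eq : ∀ P Q, r P Q → H P → Nat.card P = Nat.card Q

/-- Marks agree on classes outside `H` and on classes of order above `n`. -/
def StableAbove (r : Setoid (Subgroup K)) (H : Subgroup K → Prop) (X : Type*) [MulAction K X]
    (n : ℕ) : Prop :=
  ∀ P Q, r P Q → (¬ H P ∨ n < Nat.card P) → mark P X = mark Q X

/-- `X'` arises from `X` by enlarging with orbits with stabilisers in `H`. -/
structure Ext (H : Subgroup K → Prop) (X X' : Type u) [MulAction K X] [MulAction K X'] : Prop where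
  stab : ∀ x' : X', H (stabilizer K x') ∨ ∃ x : X, stabilizer K x' = stabilizer K x
  mark_le : ∀ P : Subgroup K, mark P X ≤ mark P X'

theorem Ext.trans {H : Subgroup K → Prop} {X X' X'' : Type u} [MulAction K X] [MulAction K X']
    [MulAction K X''] (h : Ext H X X') (h' : Ext H X' X'') : Ext H X X'' := by
  refine ⟨fun z => ?_, fun P => (h.mark_le P).trans (h'.mark_le P)⟩
  rcases h'.stab z with hz | ⟨y, hy⟩
  · exact Or.inl hz
  · rw [hy]; exact h.stab y

theorem Ext.refl {H : Subgroup K → Prop} (X : Type u) [MulAction K X] : Ext H X X :=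
  ⟨fun x => Or.inr ⟨x, rfl⟩, fun _ => le_rfl⟩

/-- The chosen member of the `K`-class of a subgroup. -/
noncomputable def conjRep (P : Subgroup K) : Subgroup K :=
  (Quotient.mk (MulAction.orbitRel (ConjAct K) (Subgroup K)) P).out

variable [Finite K]

/-- One step of the stabilisation: prescribed marks on the subgroups of one order. -/
theorem exists_step {r : Setoid (Subgroup K)} {H : Subgroup K → Prop} (hD : Domain r H)
    (X : Type u) [MulAction K X] [Finite X] (n : ℕ) (hX : StableAbove r H X (n + 1))
    (t : Subgroup K → ℕ) (ht : ∀ P Q, r P Q → H P → t P = t Q)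
    (hcong : ∀ P, H P → Nat.card P = n + 1 → ∃ c, mark P X + c * weight P = t P) :
    ∃ (X' : Type u) (_ : MulAction K X') (_ : Finite X'),
      StableAbove r H X' n ∧ Ext H X X' ∧
      ∀ d, (∀ P, H P → d ∣ P.index) → Nat.card X' ≡ Nat.card X [MOD d] := by
  classical
  have : Fintype (Subgroup K) := Fintype.ofFinite _
  have hrep : ∀ P : Subgroup K, ∃ k : K, conjRep P = P.map (MulAut.conj k).toMonoidHom := by
    intro P
    obtain ⟨k, hk⟩ := MulAction.orbitRel_apply.1 (Quotient.mk_out (s := MulAction.orbitRel (ConjAct K) (Subgroup K)) P)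
    exact ⟨ConjAct.ofConjAct k, hk.symm⟩
  have hrep' : ∀ (P : Subgroup K) (k : K), conjRep (P.map (MulAut.conj k).toMonoidHom) = conjRep P := by
    intro P k
    exact congrArg Quotient.out (Quotient.sound (MulAction.orbitRel_apply.2 ⟨ConjAct.toConjAct k, rfl⟩))
  -- the multiplicities
  let c : Subgroup K → ℕ := fun P =>
    if h : H P ∧ Nat.card P = n + 1 ∧ conjRep P = P then (hcong P h.1 h.2.1).choose else 0
  have hc : ∀ P, 0 < c P → H P ∧ Nat.card P = n + 1 := by
    intro P h
    simp only [c] at h
    split_ifs at h with h'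
    exacts [⟨h'.1, h'.2.1⟩, absurd h (lt_irrefl _)]
  let Z := Σ a : (Σ P : Subgroup K, Fin (c P)), K ⧸ a.1
  refine ⟨X ⊕ Z, inferInstance, inferInstance, fun P Q hPQ hP => ?_, ⟨?_, fun P => ?_⟩, fun d hd => ?_⟩
  · have hmark : ∀ P : Subgroup K, mark P Z = ∑ R : Subgroup K, c R * mark P (K ⧸ R) := fun P => by
      rw [show mark (K := K) P Z = ∑ a : (Σ R : Subgroup K, Fin (c R)), mark P (K ⧸ a.1) from
        mark_sigma (Z := fun a : (Σ R : Subgroup K, Fin (c R)) => K ⧸ a.1) P, Fintype.sum_sigma]
      refine Finset.sum_congr rfl fun R _ => ?_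
      show ∑ _y : Fin (c R), mark P (K ⧸ R) = _
      rw [Finset.sum_const, Finset.card_univ, smul_eq_mul, ← Nat.card_eq_fintype_card, Nat.card_fin]
    -- new orbits are invisible outside `H` and above `n + 1`
    have hzero : ∀ P : Subgroup K, (¬ H P ∨ n + 1 < Nat.card P) → mark P Z = 0 := fun P hP => by
      rw [hmark]
      refine Finset.sum_eq_zero fun R _ => ?_
      rcases Nat.eq_zero_or_pos (c R) with h | h
      · rw [h, zero_mul]
      · obtain ⟨hR, hRc⟩ := hc R h
        rw [mark_coset_eq_zero fun k hle => ?_, mul_zero]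
        rcases hP with hP | hP
        · exact hP (hD.mono _ _ hle (hD.mem_of_rel _ _ (hD.conj_rel k R) hR))
        · have := Subgroup.card_le_of_le hle
          rw [Subgroup.card_map_of_injective (MulAut.conj k).injective, hRc] at this
          omega
    have hlevel : ∀ P, H P → Nat.card P = n + 1 → mark P (X ⊕ Z) = t P := by
      intro P hP hPc
      obtain ⟨k, hk⟩ := hrep P
      set R := conjRep P with hR
      have hRP : r P R := hk ▸ hD.conj_rel k P
      have hRH : H R := hD.mem_of_rel _ _ hRP hP
      have hRc : Nat.card R = n + 1 := (hD.card_eq _ _ hRP hP).symm.trans hPc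
      have hsum : mark P Z = c R * weight R := by
        rw [hmark, Finset.sum_eq_single R]
        · rw [weight]
          conv_lhs => rw [← mark_conj (X := K ⧸ R) k P, ← hk]
        · intro R' _ hne
          rcases Nat.eq_zero_or_pos (c R') with h | h
          · rw [h, zero_mul]
          · rw [mark_coset_eq_zero fun j hle => hne ?_, mul_zero]
            have h' := h
            simp only [c] at h'
            split_ifs at h' with hh
            · have e : P = R'.map (MulAut.conj j).toMonoidHom :=
                Subgroup.eq_of_le_of_card_ge hle (by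
                  rw [Subgroup.card_map_of_injective (MulAut.conj j).injective, hh.2.1, hPc])
              rw [hR, e, hrep', hh.2.2]
            · exact absurd h' (lt_irrefl _)
        · intro h; exact absurd (Finset.mem_univ _) h
      rw [mark_sum, hsum]
      have hRR : conjRep R = R := by rw [hk, hrep', ← hR, hk]
      have hcR : mark R X + c R * weight R = t R := by
        simp only [c]
        rw [dif_pos ⟨hRH, hRc, hRR⟩]
        exact (hcong R hRH hRc).choose_spec
      rw [ht P R hRP hP, ← hcR, ← mark_conj (X := X) k P, ← hk]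
    by_cases h : H P ∧ Nat.card P = n + 1
    · rw [hlevel P h.1 h.2, hlevel Q (hD.mem_of_rel _ _ hPQ h.1)
        ((hD.card_eq _ _ hPQ h.1).symm.trans h.2), ht P Q hPQ h.1]
    · have hP' : ¬ H P ∨ n + 1 < Nat.card P := by
        rcases hP with hP | hP
        · exact Or.inl hP
        · by_cases hH : H P
          · exact Or.inr (lt_of_le_of_ne hP fun e => h ⟨hH, e.symm⟩)
          · exact Or.inl hH
      have hQ' : ¬ H Q ∨ n + 1 < Nat.card Q := by
        by_cases hH : H Q
        · have hHP : H P := hD.mem_of_rel _ _ (r.symm' hPQ) hH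
          exact Or.inr ((hP'.resolve_left (not_not.2 hHP)).trans_eq (hD.card_eq _ _ hPQ hHP))
        · exact Or.inl hH
      rw [mark_sum, mark_sum, hzero P hP', hzero Q hQ', hX P Q hPQ hP']
  · rintro (x | ⟨⟨R, i⟩, z⟩)
    · exact Or.inr ⟨x, stabilizer_inl x⟩
    · refine Or.inl ?_
      rw [stabilizer_inr, stabilizer_sigma]
      induction z using QuotientGroup.induction_on with
      | H k =>
        rw [stabilizer_coset]
        exact hD.mem_of_rel _ _ (hD.conj_rel k R) (hc R i.pos).1
  · rw [mark_sum]; exact Nat.le_add_right _ _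
  · have hZ : d ∣ Nat.card Z := by
      rw [Nat.card_sigma]
      exact Finset.dvd_sum fun a _ => hd a.1 (hc a.1 a.2.pos).1
    rw [Nat.card_sum]
    exact (Nat.modEq_zero_iff_dvd.2 hZ).add_left _ |>.trans (by rw [add_zero])

theorem stableAbove_card {r : Setoid (Subgroup K)} {H : Subgroup K → Prop}
    (X : Type u) [MulAction K X] (h : ∀ P Q, r P Q → ¬ H P → mark P X = mark Q X) :
    StableAbove r H X (Nat.card K) := fun P Q hPQ hP =>
  h P Q hPQ (hP.resolve_right (not_lt.2 (Nat.le_of_dvd Nat.card_pos (Subgroup.card_subgroup_dvd_card P))))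

theorem StableAbove.stable {r : Setoid (Subgroup K)} {H : Subgroup K → Prop} {X : Type u}
    [MulAction K X] (h : StableAbove r H X 0) (P Q : Subgroup K) (hPQ : r P Q) :
    mark P X = mark Q X := h P Q hPQ (Or.inr Nat.card_pos)

/-- Stabilisation when normalisers of the members of every class map into the normaliser of a
chosen member, preserving the classes of larger subgroups. -/
theorem exists_stable {r : Setoid (Subgroup K)} {H : Subgroup K → Prop} (hD : Domain r H)
    (hψ : ∀ P, H P → ∃ P₀, r P P₀ ∧ ∀ Q, r P Q → ∃ ψ : Subgroup.normalizer (Q : Set K) →* K,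
      (Q.subgroupOf (Subgroup.normalizer (Q : Set K))).map ψ = P₀ ∧
      ∀ L : Subgroup (Subgroup.normalizer (Q : Set K)),
        Q.subgroupOf (Subgroup.normalizer (Q : Set K)) < L →
        r (L.map (Subgroup.normalizer (Q : Set K)).subtype) (L.map ψ))
    (X : Type u) [MulAction K X] [Finite X] (hX : ∀ P Q, r P Q → ¬ H P → mark P X = mark Q X) :
    ∃ (X' : Type u) (_ : MulAction K X') (_ : Finite X'),
      (∀ P Q, r P Q → mark P X' = mark Q X') ∧ Ext H X X' ∧
      ∀ d, (∀ P, H P → d ∣ P.index) → Nat.card X' ≡ Nat.card X [MOD d] := by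
  suffices h : ∀ (n : ℕ) (Y : Type u) [MulAction K Y] [Finite Y], StableAbove r H Y n →
      ∃ (X' : Type u) (_ : MulAction K X') (_ : Finite X'),
        StableAbove r H X' 0 ∧ Ext H Y X' ∧
        ∀ d, (∀ P, H P → d ∣ P.index) → Nat.card X' ≡ Nat.card Y [MOD d] by
    obtain ⟨X', i, j, h1, h2, h3⟩ := h _ X (stableAbove_card X hX)
    exact ⟨X', i, j, h1.stable, h2, h3⟩
  intro n
  induction n with
  | zero => intro Y i j hY; exact ⟨Y, i, j, hY, Ext.refl Y, fun d _ => rfl⟩
  | succ n ih =>
      intro Y _ _ hY
      classical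
      let t : Subgroup K → ℕ := fun P =>
        if h : H (Quotient.mk r P).out then mark (hψ _ h).choose Y + Nat.card K * Nat.card Y else 0
      have ht : ∀ P Q, r P Q → H P → t P = t Q := fun P Q hPQ _ => by
        simp only [t]
        rw [show Quotient.mk r P = Quotient.mk r Q from Quotient.sound hPQ]
      obtain ⟨Y', i, j, h1, h2, h3⟩ := exists_step hD Y n hY t ht fun P hP hPc => by
        have hout : r (Quotient.mk r P).out P := Quotient.mk_out P
        have hHout : H (Quotient.mk r P).out := hD.mem_of_rel _ _ (r.symm' hout) hP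
        obtain ⟨hrel, hψ'⟩ := (hψ _ hHout).choose_spec
        set P₀ := (hψ _ hHout).choose with hP₀
        obtain ⟨ψ, hψP, hψL⟩ := hψ' P hout
        let A := Subgroup.normalizer (P : Set K)
        have hdvd : (weight P : ℤ) ∣ (mark P Y : ℤ) - mark P₀ Y := by
          have hidx : (P.subgroupOf A).index = weight P := by
            have h1 := weight_mul_card P
            have h2 := (P.subgroupOf A).index_mul_card
            rw [Nat.card_congr (Subgroup.subgroupOfEquivOfLe Subgroup.le_normalizer).toEquiv] at h2
            exact Nat.eq_of_mul_eq_mul_right Nat.card_pos (h2.trans h1.symm)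
          let _ : MulAction A Y := MulAction.compHom Y A.subtype
          have e1 : ∀ L : Subgroup A, mark (L.map A.subtype) Y = mark L Y := fun L => mark_map _ L
          have e2 : ∀ L : Subgroup A, mark (L.map ψ) Y = @mark A _ L Y (MulAction.compHom Y ψ) :=
            fun L => mark_map ψ L
          have hcg := @mark_congruent A _ Y Y (MulAction.compHom Y A.subtype)
            (MulAction.compHom Y ψ) _ (P.subgroupOf A) inferInstance _ _ (fun L hL => by
              rw [← e1, ← e2]
              refine hY _ _ (hψL L hL) (Or.inr ?_)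
              rw [Subgroup.card_map_of_injective A.subtype_injective, ← hPc,
                ← Nat.card_congr (Subgroup.subgroupOfEquivOfLe (Subgroup.le_normalizer (H := P))).toEquiv]
              exact lt_of_le_of_ne (Subgroup.card_le_of_le hL.le) fun e =>
                hL.ne (Subgroup.eq_of_le_of_card_ge hL.le e.ge))
          rw [hidx, ← e1, ← e2, hψP,
            Subgroup.map_subgroupOf_eq_of_le Subgroup.le_normalizer] at hcg
          exact hcg
        have htP : t P = mark P₀ Y + Nat.card K * Nat.card Y := dif_pos hHout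
        have hle : mark P Y ≤ t P := by
          have h1 : mark P Y ≤ Nat.card Y := Finite.card_subtype_le _
          have h2 : Nat.card Y ≤ Nat.card K * Nat.card Y := Nat.le_mul_of_pos_left _ Nat.card_pos
          omega
        have hdvd' : (weight P : ℤ) ∣ ((t P - mark P Y : ℕ) : ℤ) := by
          rw [Nat.cast_sub hle, htP, Nat.cast_add, Nat.cast_mul,
            show ((mark P₀ Y : ℤ) + Nat.card K * Nat.card Y) - mark P Y =
              Nat.card K * Nat.card Y - ((mark P Y : ℤ) - mark P₀ Y) by ring]
          exact dvd_sub (dvd_mul_of_dvd_left (Int.natCast_dvd_natCast.2 (weight_dvd_card P)) _) hdvd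
        obtain ⟨c, hc⟩ := Int.natCast_dvd_natCast.1 hdvd'
        exact ⟨c, by rw [mul_comm c]; omega⟩
      obtain ⟨X', i', j', g1, g2, g3⟩ := ih Y' h1
      exact ⟨X', i', j', g1, h2.trans g2, fun d hd => (g3 d hd).trans (h3 d hd)⟩

/-- The action of `K` on `N` copies of `X`. -/
def copies (K : Type u) [Group K] (N : ℕ) (X : Type u) [MulAction K X] : Type u :=
  Σ _ : ULift.{u} (Fin N), X

instance (N : ℕ) (X : Type u) [MulAction K X] : MulAction K (copies K N X) :=
  inferInstanceAs (MulAction K (Σ _ : ULift.{u} (Fin N), X))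

instance (N : ℕ) (X : Type u) [MulAction K X] [Finite X] : Finite (copies K N X) :=
  inferInstanceAs (Finite (Σ _ : ULift.{u} (Fin N), X))

omit [Finite K] in
theorem mark_copies (N : ℕ) (X : Type u) [MulAction K X] [Finite X] (P : Subgroup K) :
    mark P (copies K N X) = N * mark P X := by
  show mark P (Σ _ : ULift.{u} (Fin N), X) = _
  rw [mark_sigma]
  simp

/-- Stabilisation up to a multiple, for any domain. -/
theorem exists_stable_multiple {r : Setoid (Subgroup K)} {H : Subgroup K → Prop} (hD : Domain r H)
    (X : Type u) [MulAction K X] [Finite X] (hX : ∀ P Q, r P Q → ¬ H P → mark P X = mark Q X) :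
    ∃ (X' : Type u) (_ : MulAction K X') (_ : Finite X'),
      (∀ P Q, r P Q → mark P X' = mark Q X') ∧ Ext H X X' := by
  suffices h : ∀ (n : ℕ) (Y : Type u) [MulAction K Y] [Finite Y], StableAbove r H Y n →
      ∃ (X' : Type u) (_ : MulAction K X') (_ : Finite X'), StableAbove r H X' 0 ∧ Ext H Y X' by
    obtain ⟨X', i, j, h1, h2⟩ := h _ X (stableAbove_card X hX)
    exact ⟨X', i, j, h1.stable, h2⟩
  intro n
  induction n with
  | zero => intro Y i j hY; exact ⟨Y, i, j, hY, Ext.refl Y⟩
  | succ n ih =>
      intro Y _ _ hY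
      set N := Nat.card K
      have hY1 : StableAbove r H (copies K N Y) (n + 1) := fun P Q hPQ hP => by
        rw [mark_copies, mark_copies, hY P Q hPQ hP]
      have he : Ext H Y (copies K N Y) :=
        ⟨fun z => Or.inr ⟨z.2, stabilizer_sigma (Z := fun _ : ULift.{u} (Fin N) => Y) z.1 z.2⟩,
          fun P => by rw [mark_copies]; exact Nat.le_mul_of_pos_left _ Nat.card_pos⟩
      obtain ⟨Y', i, j, h1, h2, -⟩ := exists_step hD (copies K N Y) n hY1
        (fun _ => N * Nat.card Y) (fun _ _ _ _ => rfl) fun P _ _ => by
          have hle : mark P Y ≤ Nat.card Y := Finite.card_subtype_le _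
          obtain ⟨c, hc⟩ := weight_dvd_card P
          refine ⟨c * (Nat.card Y - mark P Y), ?_⟩
          rw [mark_copies, mul_right_comm, mul_comm c, ← hc, ← Nat.mul_add, Nat.add_sub_cancel' hle]
      obtain ⟨X', i', j', g1, g2⟩ := ih Y' h1
      exact ⟨X', i', j', g1, (he.trans h2).trans g2⟩

end CfsgLib.Fusion.Marks
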