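import Cfsg.Agent.Lib.Fusion.NormalCriterion
import Cfsg.Agent.Lib.Fusion.Biset.Stabilise

/-!
# Twisted diagonal subgroups of `S × S`
-/

set_option autoImplicit false

namespace CfsgLib.Fusion

open Cfsg Cfsg.FusionSystem

universe u

variable {Ω : Type u} [Group Ω] {S : Subgroup Ω} (F : FusionSystem S)

/-- `L` is `{(φ b, b) | b ∈ P}`. -/
def IsTwist (P : Subgroup Ω) (φ : P →* Ω) (L : Subgroup (↥S × ↥S)) : Prop :=
  ∀ k : ↥S × ↥S, k ∈ L ↔ ∃ h : (k.2 : Ω) ∈ P, φ ⟨k.2, h⟩ = (k.1 : Ω)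

/-- Twisted diagonals of maps of the system. -/
def IsTwisted (L : Subgroup (↥S × ↥S)) : Prop := ∃ P, ∃ φ ∈ F.Hom P, IsTwist P φ L

/-- The second projection of a subgroup of `S × S`. -/
def dom (L : Subgroup (↥S × ↥S)) : Subgroup Ω := L.map (S.subtype.comp (MonoidHom.snd ↥S ↥S))

variable {F}

/-- The twisted diagonal of a map of the system. -/
def twist {P : Subgroup Ω} {φ : P →* Ω} (_hφ : φ ∈ F.Hom P) : Subgroup (↥S × ↥S) where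
  carrier := {k | ∃ h : (k.2 : Ω) ∈ P, φ ⟨k.2, h⟩ = (k.1 : Ω)}
  one_mem' := ⟨P.one_mem, map_one φ⟩
  mul_mem' := by
    rintro a b ⟨ha, ha'⟩ ⟨hb, hb'⟩
    refine ⟨P.mul_mem ha hb, ?_⟩
    show φ (⟨(a.2 : Ω), ha⟩ * ⟨(b.2 : Ω), hb⟩) = (a.1 : Ω) * (b.1 : Ω)
    rw [map_mul, ha', hb']
  inv_mem' := by
    rintro a ⟨ha, ha'⟩
    refine ⟨P.inv_mem ha, ?_⟩
    show φ (⟨(a.2 : Ω), ha⟩⁻¹) = (a.1 : Ω)⁻¹
    rw [map_inv, ha']

theorem isTwist_twist {P : Subgroup Ω} {φ : P →* Ω} (hφ : φ ∈ F.Hom P) :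
    IsTwist P φ (twist hφ) := fun _ => Iff.rfl

theorem twist_isTwisted {P : Subgroup Ω} {φ : P →* Ω} (hφ : φ ∈ F.Hom P) :
    IsTwisted F (twist hφ) := ⟨P, φ, hφ, isTwist_twist hφ⟩

theorem IsTwist.mem {P : Subgroup Ω} {φ : P →* Ω} {L : Subgroup (↥S × ↥S)} (h : IsTwist P φ L)
    (hφ : φ ∈ F.Hom P) (b : P) :
    ((⟨φ b, hom_apply_mem hφ b⟩, ⟨b, hom_le hφ b.2⟩) : ↥S × ↥S) ∈ L :=
  (h _).2 ⟨b.2, rfl⟩

theorem IsTwist.dom_eq {P : Subgroup Ω} {φ : P →* Ω} {L : Subgroup (↥S × ↥S)}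
    (h : IsTwist P φ L) (hφ : φ ∈ F.Hom P) : dom L = P := by
  ext x
  constructor
  · rintro ⟨k, hk, rfl⟩
    exact ((h k).1 hk).1
  · intro hx
    exact ⟨_, h.mem hφ ⟨x, hx⟩, rfl⟩

theorem IsTwist.eq {P : Subgroup Ω} {φ : P →* Ω} {L M : Subgroup (↥S × ↥S)}
    (h : IsTwist P φ L) (h' : IsTwist P φ M) : L = M :=
  Subgroup.ext fun k => (h k).trans (h' k).symm

theorem IsTwisted.snd_injective {L : Subgroup (↥S × ↥S)} (hL : IsTwisted F L) {a b : ↥S × ↥S}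
    (ha : a ∈ L) (hb : b ∈ L) (h : a.2 = b.2) : a = b := by
  obtain ⟨P, φ, -, hT⟩ := hL
  obtain ⟨ha', ha''⟩ := (hT a).1 ha
  obtain ⟨hb', hb''⟩ := (hT b).1 hb
  refine Prod.ext (Subtype.ext ?_) h
  rw [← ha'', ← hb'']
  exact congrArg φ (Subtype.ext (congrArg Subtype.val h : (a.2 : Ω) = b.2))

theorem IsTwisted.card_eq {L : Subgroup (↥S × ↥S)} (hL : IsTwisted F L) :
    Nat.card L = Nat.card (dom L) := by
  refine Nat.card_congr (Equiv.ofBijective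
    (fun k : L => (⟨_, ⟨k.1, k.2, rfl⟩⟩ : dom L)) ⟨fun a b h => ?_, ?_⟩)
  · have h2 : ((a : ↥S × ↥S).2 : Ω) = ((b : ↥S × ↥S).2 : Ω) := congrArg (fun z : dom L => (z : Ω)) h
    exact Subtype.ext (hL.snd_injective a.2 b.2 (Subtype.ext h2))
  · rintro ⟨_, k, hk, rfl⟩
    exact ⟨⟨k, hk⟩, rfl⟩

theorem IsTwisted.mono {L M : Subgroup (↥S × ↥S)} (hM : IsTwisted F M) (h : L ≤ M) :
    IsTwisted F L := by
  obtain ⟨P, φ, hφ, hT⟩ := hM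
  have hle : dom L ≤ P := by
    rintro _ ⟨k, hk, rfl⟩
    exact ((hT k).1 (h hk)).1
  refine ⟨dom L, _, restrict_mem hφ hle, fun k => ⟨fun hk => ?_, ?_⟩⟩
  · exact ⟨⟨k, hk, rfl⟩, ((hT k).1 (h hk)).2⟩
  · rintro ⟨⟨m, hm, hmk⟩, he⟩
    obtain ⟨hm1, hm2⟩ := (hT m).1 (h hm)
    have h2 : m.2 = k.2 := Subtype.ext hmk
    have e : m = k := Prod.ext (Subtype.ext (by
      rw [← hm2, ← he]
      exact congrArg φ (Subtype.ext hmk))) h2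
    exact e ▸ hm

theorem dom_mono {L M : Subgroup (↥S × ↥S)} (h : L ≤ M) : dom L ≤ dom M := Subgroup.map_mono h

theorem dom_le (L : Subgroup (↥S × ↥S)) : dom L ≤ S := by
  rintro _ ⟨k, -, rfl⟩
  exact k.2.2

variable (F)

/-- `M` is the image of `L` under a pair of maps of the system. -/
def Related (L M : Subgroup (↥S × ↥S)) : Prop :=
  ∃ A B, ∃ v ∈ F.Hom A, ∃ u ∈ F.Hom B, ∃ hA : ∀ k ∈ L, (k.2 : Ω) ∈ A,
    ∃ hB : ∀ k ∈ L, (k.1 : Ω) ∈ B,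
    ∀ m : ↥S × ↥S, m ∈ M ↔ ∃ k, ∃ hk : k ∈ L,
      u ⟨k.1, hB k hk⟩ = (m.1 : Ω) ∧ v ⟨k.2, hA k hk⟩ = (m.2 : Ω)

variable {F}

theorem Related.symm {L M : Subgroup (↥S × ↥S)} (h : Related F L M) : Related F M L := by
  obtain ⟨A, B, v, hv, u, hu, hA, hB, hM⟩ := h
  obtain ⟨v', hv', -, hvl, -⟩ := exists_inv hv rfl
  obtain ⟨u', hu', -, hul, -⟩ := exists_inv hu rfl
  refine ⟨_, _, v', hv', u', hu', fun m hm => ?_, fun m hm => ?_, fun k => ⟨fun hk => ?_, ?_⟩⟩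
  · obtain ⟨k, hk, -, e⟩ := (hM m).1 hm
    exact ⟨_, e⟩
  · obtain ⟨k, hk, e, -⟩ := (hM m).1 hm
    exact ⟨_, e⟩
  · refine ⟨(⟨u ⟨k.1, hB k hk⟩, hom_apply_mem hu _⟩, ⟨v ⟨k.2, hA k hk⟩, hom_apply_mem hv _⟩),
      (hM _).2 ⟨k, hk, rfl, rfl⟩, hul _ _, hvl _ _⟩
  · rintro ⟨m, hm, h1, h2⟩
    obtain ⟨k', hk', e1, e2⟩ := (hM m).1 hm
    have a1 : u' ⟨(m.1 : Ω), ⟨_, e1⟩⟩ = (k'.1 : Ω) := by
      rw [show (⟨(m.1 : Ω), ⟨_, e1⟩⟩ : u.range) = ⟨u ⟨k'.1, hB k' hk'⟩, ⟨_, rfl⟩⟩ from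
        Subtype.ext e1.symm]
      exact hul _ _
    have a2 : v' ⟨(m.2 : Ω), ⟨_, e2⟩⟩ = (k'.2 : Ω) := by
      rw [show (⟨(m.2 : Ω), ⟨_, e2⟩⟩ : v.range) = ⟨v ⟨k'.2, hA k' hk'⟩, ⟨_, rfl⟩⟩ from
        Subtype.ext e2.symm]
      exact hvl _ _
    have e : k = k' := Prod.ext (Subtype.ext (h1.symm.trans a1)) (Subtype.ext (h2.symm.trans a2))
    exact e ▸ hk'

theorem Related.isTwisted {L M : Subgroup (↥S × ↥S)} (h : Related F L M) (hL : IsTwisted F L) :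
    IsTwisted F M ∧ F.IsConj (dom L) (dom M) := by
  obtain ⟨A, B, v, hv, u, hu, hA, hB, hM⟩ := h
  obtain ⟨P, φ, hφ, hT⟩ := hL
  have hPA : P ≤ A := fun x hx => hA _ (hT.mem hφ ⟨x, hx⟩)
  have hφB : ∀ x : P, φ x ∈ B := fun x => hB _ (hT.mem hφ x)
  obtain ⟨w, hw, hwr, hwl, hwv⟩ := exists_inv (restrict_mem hv hPA) rfl
  have hwP : ∀ y, w y ∈ P := fun y => (hwv y).1
  have hχ := F.comp_mem hw hφ hwP
  have hmem : ∀ y, (φ.comp (w.codRestrict P hwP)) y ∈ B := fun y => hφB _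
  have hT' : IsTwist _ (u.comp ((φ.comp (w.codRestrict P hwP)).codRestrict B hmem)) M := by
    intro m
    rw [hM m]
    constructor
    · rintro ⟨k, hk, h1, h2⟩
      obtain ⟨hk2, hk1⟩ := (hT k).1 hk
      have hm2 : (m.2 : Ω) ∈ (v.comp (Subgroup.inclusion hPA)).range := ⟨⟨k.2, hk2⟩, h2⟩
      refine ⟨hm2, ?_⟩
      rw [← h1]
      refine congrArg u (Subtype.ext ?_)
      show φ ⟨w ⟨(m.2 : Ω), hm2⟩, _⟩ = (k.1 : Ω)
      rw [← hk1]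
      refine congrArg φ (Subtype.ext ?_)
      show w ⟨(m.2 : Ω), hm2⟩ = (k.2 : Ω)
      rw [show (⟨(m.2 : Ω), hm2⟩ : (v.comp (Subgroup.inclusion hPA)).range) =
        ⟨(v.comp (Subgroup.inclusion hPA)) ⟨k.2, hk2⟩, ⟨_, rfl⟩⟩ from Subtype.ext h2.symm]
      exact hwl _ _
    · rintro ⟨hm2, hm1⟩
      refine ⟨_, hT.mem hφ ⟨w ⟨m.2, hm2⟩, hwP _⟩, hm1, ?_⟩
      obtain ⟨hy, e⟩ := hwv ⟨m.2, hm2⟩
      exact e
  have hmap : u.comp ((φ.comp (w.codRestrict P hwP)).codRestrict B hmem) ∈ F.Hom _ :=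
    F.comp_mem hχ hu hmem
  refine ⟨⟨_, _, hmap, hT'⟩, ?_⟩
  rw [hT.dom_eq hφ, hT'.dom_eq hmap]
  exact ⟨_, restrict_mem hv hPA, rfl⟩

theorem related_conj (k : ↥S × ↥S) (L : Subgroup (↥S × ↥S)) :
    Related F L (L.map (MulAut.conj k).toMonoidHom) := by
  refine ⟨S, S, conjHom S k.2, F.conj_mem le_rfl k.2.2, conjHom S k.1, F.conj_mem le_rfl k.1.2,
    fun a _ => a.2.2, fun a _ => a.1.2, fun m => ?_⟩
  constructor
  · rintro ⟨a, ha, rfl⟩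
    exact ⟨a, ha, rfl, rfl⟩
  · rintro ⟨a, ha, h1, h2⟩
    exact ⟨a, ha, Prod.ext (Subtype.ext h1) (Subtype.ext h2)⟩

variable (F)

/-- Twisted diagonals with conjugate domains form a class; all other subgroups form one more. -/
def twistSetoid : Setoid (Subgroup (↥S × ↥S)) where
  r L M := (IsTwisted F L ∧ IsTwisted F M ∧ F.IsConj (dom L) (dom M)) ∨
    (¬ IsTwisted F L ∧ ¬ IsTwisted F M)
  iseqv :=
    { refl := fun L => by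
        by_cases h : IsTwisted F L
        · exact Or.inl ⟨h, h, isConj_refl (dom_le L)⟩
        · exact Or.inr ⟨h, h⟩
      symm := fun h => h.imp (fun ⟨a, b, c⟩ => ⟨b, a, isConj_symm c⟩) fun ⟨a, b⟩ => ⟨b, a⟩
      trans := by
        rintro L M N (⟨a, b, c⟩ | ⟨a, b⟩) (⟨a', b', c'⟩ | ⟨a', b'⟩)
        · exact Or.inl ⟨a, b', isConj_trans c c'⟩
        · exact absurd b a'
        · exact absurd a' b
        · exact Or.inr ⟨a, b'⟩ }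

variable {F}

theorem Related.rel {L M : Subgroup (↥S × ↥S)} (h : Related F L M) : twistSetoid F L M := by
  by_cases hL : IsTwisted F L
  · exact Or.inl ⟨hL, h.isTwisted hL⟩
  · exact Or.inr ⟨hL, fun hM => hL (h.symm.isTwisted hM).1⟩

/-- The twisted diagonals with proper domain. -/
def ProperTwisted (F : FusionSystem S) (L : Subgroup (↥S × ↥S)) : Prop :=
  IsTwisted F L ∧ dom L ≠ S

theorem twist_domain [Finite S] : Marks.Domain (twistSetoid F) (ProperTwisted F) where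
  conj_rel k P := (related_conj k P).rel
  mem_of_rel := by
    rintro P Q (⟨-, hQ, hc⟩ | ⟨hP, -⟩) ⟨hP', hne⟩
    · refine ⟨hQ, fun h => hne ?_⟩
      have hd := dom_le P
      exact Subgroup.eq_of_le_of_card_ge hd (by rw [isConj_card hc, h])
    · exact absurd hP' hP
  mono := by
    rintro P Q hle ⟨hQ, hne⟩
    exact ⟨hQ.mono hle, fun h => hne (le_antisymm (dom_le Q) (h.ge.trans (dom_mono hle)))⟩
  card_eq := by
    rintro P Q (⟨hP, hQ, hc⟩ | ⟨hP, -⟩) hP'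
    · rw [hP.card_eq, hQ.card_eq, isConj_card hc]
    · exact absurd hP'.1 hP

end CfsgLib.Fusion
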